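import Groth.Agent.L28.AffLef.Line
import Groth.Agent.L22.AffineDim
import Groth.Agent.L19.IntegralHom
import Mathlib.RingTheory.NoetherNormalization

/-! # Affine Lefschetz -/

set_option autoImplicit false
set_option linter.style.haveILetI false
set_option linter.unusedSectionVars false
set_option backward.isDefEq.respectTransparency.types false

universe u

open CategoryTheory CategoryTheory.Limits AlgebraicGeometry Opposite IsLocalRing
open Groth.L16.ProjSpace

noncomputable section

namespace Groth.L28.AffLef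

open Groth.L27

variable {ℓ : ℕ} (hℓ : ℓ.Prime)

theorem coheight_add_le {X Z : Scheme.{u}} (ι : Z ⟶ X) [IsClosedImmersion ι] {s c : ℕ}
    (hX : topologicalKrullDim X ≤ s) (hc : ∀ z : Z, (c : ℕ∞) ≤ Order.coheight (ι z)) (hcs : c ≤ s) :
    topologicalKrullDim Z ≤ ((s - c : ℕ) : WithBot ℕ∞) := by
  refine Groth.L19.DimTrdeg.dim_le_of_stalks fun z => ?_
  rw [ringKrullDim_stalk_eq_coheight]
  refine WithBot.coe_le_coe.2 (Order.coheight_le fun p hp => ?_)
  have hs : StrictMono (fun a : Z => ι a) := fun a b hab => by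
    have hle : ι b ⤳ ι a := Specializes.map hab.le ι.continuous
    refine lt_iff_le_not_ge.2 ⟨hle, fun h' => ?_⟩
    exact hab.ne (ι.isClosedEmbedding.injective (hle.antisymm h').eq.symm)
  have h1 : ∀ (i : ℕ) (hi : i < p.length + 1), Order.coheight (ι p.last) + i ≤
      Order.coheight (ι (p ⟨p.length - i, by omega⟩)) := by
    intro i
    induction i with
    | zero => exact fun _ => by rw [Nat.cast_zero, add_zero]; exact le_rfl
    | succ i ih =>
      intro hi
      rw [Nat.cast_succ, ← add_assoc]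
      exact (add_le_add_left (ih (by omega)) 1).trans
        (Order.coheight_add_one_le (hs (p.strictMono (Fin.mk_lt_mk.2 (by omega)))))
  have h2 : ringKrullDim (X.presheaf.stalk (ι (p ⟨p.length - p.length, by omega⟩))) ≤ (s : WithBot ℕ∞) :=
    (Groth.L15.CohFlat.ringKrullDim_stalk_le _).trans hX
  rw [ringKrullDim_stalk_eq_coheight] at h2
  have h3 := ((add_le_add_left (hc p.last) (p.length : ℕ∞)).trans (h1 p.length (Nat.lt_succ_self _))).trans
    (WithBot.coe_le_coe.1 h2)
  have h4 : c + p.length ≤ s := by exact_mod_cast h3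
  exact_mod_cast (show p.length ≤ s - c by omega)

variable (k : Type u) [Field k] [IsAlgClosed k] {C : Type u} [CommRing C] [Algebra k C] [Algebra.FiniteType k C]

/-- Vanishing on the fibres of the affine line. -/
def LineVan (s i : ℕ) (G : EtCoh.Ab (AL C)) : Prop :=
  ∀ (y : Spec (CommRingCat.of C)) (R : Type u) [CommRing R] [IsLocalRing R]
    [Algebra ((Spec (CommRingCat.of C)).presheaf.stalk y) R]
    [IsLocalHom (algebraMap ((Spec (CommRingCat.of C)).presheaf.stalk y) R)]
    [Hensel.IsStrictHenselization ((Spec (CommRingCat.of C)).presheaf.stalk y) R] (r b : ℕ),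
    ringKrullDim R = r → 0 < b → i + r < b + s →
      Subsingleton (EtCoh.H (pullback (p₀ C) (Hens2.specOf (Spec (CommRingCat.of C)) y R))
        ((EtCoh.pull (pullback.fst (p₀ C) (Hens2.specOf (Spec (CommRingCat.of C)) y R))).obj G) b)

theorem exists_dim (y : Spec (CommRingCat.of C)) (R : Type u) [CommRing R] [IsLocalRing R]
    [Algebra ((Spec (CommRingCat.of C)).presheaf.stalk y) R]
    [IsLocalHom (algebraMap ((Spec (CommRingCat.of C)).presheaf.stalk y) R)]
    [Hensel.IsStrictHenselization ((Spec (CommRingCat.of C)).presheaf.stalk y) R] {s : ℕ}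
    (hC : ringKrullDim C ≤ s) : ∃ r : ℕ, r ≤ s ∧ ringKrullDim R = r ∧ Order.coheight y = r := by
  have h : ringKrullDim ((Spec (CommRingCat.of C)).presheaf.stalk y) ≤ (s : WithBot ℕ∞) :=
    (Groth.L15.CohFlat.ringKrullDim_stalk_le _).trans
      ((PrimeSpectrum.topologicalKrullDim_eq_ringKrullDim C).trans_le hC)
  rw [ringKrullDim_stalk_eq_coheight] at h
  have h' : Order.coheight y ≤ (s : ℕ∞) := WithBot.coe_le_coe.1 h
  obtain ⟨r, hr⟩ := ENat.ne_top_iff_exists.1 (ne_top_of_le_ne_top (ENat.natCast_ne_top s) h')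
  refine ⟨r, by exact_mod_cast hr.le.trans h', ?_, hr.symm⟩
  rw [L05.Henselization.ringKrullDim_strict ((Spec (CommRingCat.of C)).presheaf.stalk y) R,
    ringKrullDim_stalk_eq_coheight, ← hr]
  rfl

include hℓ k in
set_option maxHeartbeats 1000000 in
theorem cdLE_AL {s : ℕ} (hC : ringKrullDim C ≤ s) (ih : ∀ m ≤ s, AffBound.{u} ℓ m) :
    FieldTower.CdLE ℓ (AL C) (s + 1) := by
  haveI : IsNoetherianRing C := Algebra.FiniteType.isNoetherianRing k C
  haveI : AlgebraicGeometry.IsNoetherian (Spec (CommRingCat.of C)) := inferInstance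
  let p := p₀ C
  haveI := EtSite.preservesFiniteLimits_pull p
  haveI : PreservesFiniteLimits (EtCoh.push p) := Devissage.preservesFiniteLimits_push p
  have hk : FieldTower.CdLE ℓ (Spec (CommRingCat.of k)) 0 := fun G _ r hr => by
    obtain ⟨i, rfl⟩ : ∃ i, r = i + 1 := ⟨r - 1, by omega⟩
    exact CurveCd.subsingleton_H_sepClosed _ G i
  let π : Spec (CommRingCat.of C) ⟶ Spec (CommRingCat.of k) := Spec.map (CommRingCat.ofHom (algebraMap k C))
  haveI : LocallyOfFiniteType π := by
    rw [HasRingHomProperty.Spec_iff (P := @LocallyOfFiniteType)]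
    exact RingHom.finiteType_algebraMap.mpr inferInstance
  have hY : FieldTower.CdLE ℓ (Spec (CommRingCat.of C)) s := by
    have := ih s le_rfl k 0 hk _ π ((PrimeSpectrum.topologicalKrullDim_eq_ringKrullDim C).trans_le hC)
    rwa [zero_add] at this
  have hsupp : ∀ e, e ≤ s → ∀ K : EtCoh.Ab (Spec (CommRingCat.of C)), EtAcyc.IsLTorsion {ℓ} K →
      EtPBC.supp K ⊆ {y | ((s - e : ℕ) : ℕ∞) ≤ Order.coheight y} → ∀ a, e < a →
        Subsingleton (EtCoh.H (Spec (CommRingCat.of C)) K a) := by
    intro e he K hK hs a ha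
    refine subsingleton_H_supp _ (fun u v huv (hu : ((s - e : ℕ) : ℕ∞) ≤ Order.coheight u) =>
      hu.trans (Order.coheight_anti huv)) K hK hs (m := e) (fun Z ι _ hZ => ?_) a ha
    haveI : IsAffine Z := isAffine_of_isAffineHom ι
    have hd := coheight_add_le ι ((PrimeSpectrum.topologicalKrullDim_eq_ringKrullDim C).trans_le hC)
      (c := s - e) (fun z => hZ ⟨z, rfl⟩) (Nat.sub_le _ _)
    rw [show s - (s - e) = e by omega] at hd
    have := ih e he k 0 hk Z (ι ≫ π) hd
    rwa [zero_add] at this
  suffices H : ∀ (i : ℕ) (G : EtCoh.Ab (AL C)), EtAcyc.IsLTorsion {ℓ} G → i ≤ s + 1 → LineVan s i G →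
      (∀ a, i < a → Subsingleton (EtCoh.H (Spec (CommRingCat.of C)) ((EtCoh.push p).obj G) a)) →
      ∀ q, i < q → Subsingleton (EtCoh.H (AL C) G q) by
    intro F hF q hq
    refine H (s + 1) F hF le_rfl (fun y R _ _ _ _ _ r b hr hb hlt => ?_)
      (fun a ha => hY _ (CompTransfer.isLTorsion_push {ℓ} p hF) a (by omega)) q hq
    obtain ⟨r', hr's, hr', -⟩ := exists_dim y R hC
    obtain rfl : r' = r := by exact_mod_cast hr'.symm.trans hr
    exact vanAt_line C hℓ k y R r' hr' (ih r' hr's) b (by omega) _ (CompTransfer.isLTorsion_pull {ℓ} _ hF)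
  intro i
  induction i with
  | zero =>
    intro G hG _ hT hP q hq
    have hR : ∀ b, 0 < b → IsZero ((EtCoh.Rpush p b).obj G) := by
      intro b hb
      refine (EtSite.isZero_iff_stalks _).2 fun Ω _ _ ξ => ?_
      obtain ⟨R, _, _, _, _, hS⟩ :=
        L05.Henselization.exists_isStrictHenselization ((Spec (CommRingCat.of C)).presheaf.stalk (ξ.base default))
      haveI : IsSepClosed (ResidueField R) := hS.isSepClosure.sep_closed
      obtain ⟨e⟩ := StalkRpush.nonempty_natIso p (ξ.base default) R b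
      refine DimFun.isZero_stalk_of_base (Hens2.geomPt _ (ξ.base default) R) ξ (PBC.geomPt_default _ _ R).symm ?_
      obtain ⟨r, hrs, hr, -⟩ := exists_dim (ξ.base default) R hC
      exact IsZero.of_iso (@AddCommGrpCat.isZero_of_subsingleton _ (hT _ R r b hr hb (by omega))) (e.app G)
    haveI := hP q hq
    exact (EtSite.bijective_HofPush p G hR q).2.subsingleton
  | succ i ihi =>
    intro G hG his hT hP q hq
    obtain ⟨G₁, v, hv, hG₁, hH₁, hR₁⟩ := CompTransfer.exists_torsion_effacement {ℓ} G hG
    haveI := hv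
    let E : ShortComplex (EtCoh.Ab (AL C)) := ShortComplex.mk v (cokernel.π v) (cokernel.condition v)
    have hE : E.ShortExact := { exact := ShortComplex.exact_of_g_is_cokernel _ (cokernelIsCokernel v) }
    have hG₂ : EtAcyc.IsLTorsion {ℓ} E.X₃ := CompTransfer.isLTorsion_of_epi (cokernel.π v) hG₁
    let ψ := (EtCoh.push p).map E.g
    have hCt : EtAcyc.IsLTorsion {ℓ} (cokernel ψ) :=
      CompTransfer.isLTorsion_of_epi (cokernel.π ψ) (CompTransfer.isLTorsion_push {ℓ} p hG₂)
    have hCs : EtPBC.supp (cokernel ψ) ⊆ {y | ((s - i : ℕ) : ℕ∞) ≤ Order.coheight y} := by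
      intro y hy
      obtain ⟨R, _, _, _, _, hS⟩ :=
        L05.Henselization.exists_isStrictHenselization ((Spec (CommRingCat.of C)).presheaf.stalk y)
      haveI : IsSepClosed (ResidueField R) := hS.isSepClosure.sep_closed
      obtain ⟨r, hrs, hr, hry⟩ := exists_dim y R hC
      by_contra hlt
      rw [Set.mem_ofPred_eq, hry, Nat.cast_le] at hlt
      refine absurd ?_ (DimFun.not_isZero_stalk (Hens2.geomPt _ y R) (PBC.geomPt_default _ y R) hy)
      refine CurveCd.isZero_stalk_cokernel ψ _ fun a => ?_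
      obtain ⟨e⟩ := StalkRpush.nonempty_natIso p y R 0
      let g := pullback.fst p (Hens2.specOf (Spec (CommRingCat.of C)) y R)
      haveI := EtSite.preservesFiniteLimits_pull g
      haveI : (EtCoh.pull g).Additive := (EtCoh.pullPushAdj g).left_adjoint_additive
      haveI : PreservesFiniteColimits (EtCoh.pull g) :=
        have : PreservesColimitsOfSize.{0, 0} (EtCoh.pull g) := (EtCoh.pullPushAdj g).leftAdjoint_preservesColimits
        PreservesColimitsOfSize.preservesFiniteColimits _
      let T := Functor.isoWhiskerRight (EtCoh.push p).rightDerivedZeroIsoSelf.symm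
        (EtCoh.stalk (Hens2.geomPt (Spec (CommRingCat.of C)) y R)) ≪≫ e
      obtain ⟨w, hw⟩ := LimCoh.exists_map_of_δH_eq_zero (hE.map_of_exact (EtCoh.pull g)) 0 ((T.app _).hom a)
        (@Subsingleton.elim _ (hT y R r 1 hr Nat.one_pos (by omega)) _ _)
      refine ⟨(T.app _).inv w, ?_⟩
      refine (ConcreteCategory.congr_hom (T.inv.naturality E.g) w).symm.trans ?_
      refine (congrArg ((T.app _).inv) hw).trans ?_
      exact Iso.hom_inv_id_apply (T.app _) a
    have hT₂ : LineVan s i E.X₃ := by
      intro y R _ _ _ _ hS r b hr hb hlt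
      haveI : IsSepClosed (ResidueField R) := hS.isSepClosure.sep_closed
      obtain ⟨e⟩ := StalkRpush.nonempty_natIso p y R b
      let g := pullback.fst p (Hens2.specOf (Spec (CommRingCat.of C)) y R)
      have hf₁ : Subsingleton (EtCoh.H (pullback p (Hens2.specOf (Spec (CommRingCat.of C)) y R))
          ((EtCoh.pull g).obj G₁) b) :=
        AddCommGrpCat.subsingleton_of_isZero
          (IsZero.of_iso ((EtCoh.stalk (Hens2.geomPt _ y R)).map_isZero (hR₁ p b hb)) (e.app G₁).symm)
      haveI := EtSite.preservesFiniteLimits_pull g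
      haveI : (EtCoh.pull g).Additive := (EtCoh.pullPushAdj g).left_adjoint_additive
      haveI : PreservesFiniteColimits (EtCoh.pull g) :=
        have : PreservesColimitsOfSize.{0, 0} (EtCoh.pull g) := (EtCoh.pullPushAdj g).leftAdjoint_preservesColimits
        PreservesColimitsOfSize.preservesFiniteColimits _
      refine subsingleton_of_forall_eq 0 fun z => ?_
      obtain ⟨w, rfl⟩ := LimCoh.exists_map_of_δH_eq_zero (hE.map_of_exact (EtCoh.pull g)) b z
        (@Subsingleton.elim _ (hT y R r (b + 1) hr (Nat.succ_pos _) (by omega)) _ _)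
      rw [@Subsingleton.elim (EtCoh.H (pullback p (Hens2.specOf (Spec (CommRingCat.of C)) y R))
        (E.map (EtCoh.pull g)).X₂ b) hf₁ w 0]
      exact map_zero ((EtCoh.HF (pullback p (Hens2.specOf (Spec (CommRingCat.of C)) y R)) b).map (E.map (EtCoh.pull g)).g).hom
    have hP₂ : ∀ a, i < a → Subsingleton (EtCoh.H (Spec (CommRingCat.of C)) ((EtCoh.push p).obj E.X₃) a) := by
      intro a ha
      obtain ⟨j, rfl⟩ : ∃ j, a = j + 1 := ⟨a - 1, by omega⟩
      let T : ShortComplex (EtCoh.Ab (Spec (CommRingCat.of C))) :=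
        ShortComplex.mk ((EtCoh.push p).map E.f) (Abelian.factorThruImage ψ) (by
          rw [← cancel_mono (Abelian.image.ι ψ), Category.assoc, Abelian.image.fac, zero_comp, ← Functor.map_comp,
            E.zero, Functor.map_zero])
      haveI := hE.mono_f
      haveI : Mono T.f := inferInstanceAs (Mono ((EtCoh.push p).map E.f))
      haveI : Epi T.g := inferInstanceAs (Epi (Abelian.factorThruImage ψ))
      have hTs : T.ShortExact :=
        { exact := by
            let T' : ShortComplex (EtCoh.Ab (Spec (CommRingCat.of C))) := ShortComplex.mk ((EtCoh.push p).map E.f) ψ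
              (by rw [← Functor.map_comp, E.zero, Functor.map_zero])
            have hK : IsLimit (KernelFork.ofι T'.f T'.zero) := KernelFork.mapIsLimit _ hE.fIsKernel (EtCoh.push p)
            refine ShortComplex.exact_of_f_is_kernel _ (KernelFork.IsLimit.ofι' _ T.zero fun {A} a ha =>
              KernelFork.IsLimit.lift' hK a ?_)
            show a ≫ ψ = 0
            rw [← Abelian.image.fac ψ, ← Category.assoc, ha, zero_comp] }
      have h₂ : Subsingleton (EtCoh.H (Spec (CommRingCat.of C)) ((EtCoh.push p).obj E.X₂) (j + 1)) :=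
        haveI : Subsingleton (EtCoh.H (AL C) E.X₂ (j + 1)) := hH₁ j
        (EtSite.bijective_HofPush p E.X₂ (fun r hr => hR₁ p r hr) (j + 1)).1.subsingleton
      have hI : Subsingleton (EtCoh.H (Spec (CommRingCat.of C)) T.X₃ (j + 1)) := subsingleton_of_forall_eq 0 fun z => by
        obtain ⟨w, rfl⟩ := LimCoh.exists_map_of_δH_eq_zero hTs (j + 1) z
          (@Subsingleton.elim _ (hP (j + 1 + 1) (by omega)) _ _)
        rw [@Subsingleton.elim (EtCoh.H (Spec (CommRingCat.of C)) T.X₂ (j + 1)) h₂ w 0]
        exact map_zero ((EtCoh.HF (Spec (CommRingCat.of C)) (j + 1)).map T.g).hom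
      let E₂ : ShortComplex (EtCoh.Ab (Spec (CommRingCat.of C))) :=
        ShortComplex.mk (Abelian.image.ι ψ) (cokernel.π ψ) (kernel.condition _)
      have hE₂ : E₂.ShortExact :=
        { exact := ShortComplex.exact_of_f_is_kernel _ (kernelIsKernel _)
          mono_f := inferInstanceAs (Mono (Abelian.image.ι ψ))
          epi_g := inferInstanceAs (Epi (cokernel.π ψ)) }
      exact Devissage.middle hE₂ (j + 1) hI (hsupp i (by omega) _ hCt hCs (j + 1) ha)
    obtain ⟨q, rfl⟩ : ∃ q', q = q' + 1 := ⟨q - 1, by omega⟩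
    refine subsingleton_of_forall_eq 0 fun z => ?_
    obtain ⟨q', rfl⟩ : ∃ q', q = q' + 1 := ⟨q - 1, by omega⟩
    obtain ⟨x, rfl⟩ := LimCoh.exists_δH hE (q' + 1) z
      (@Subsingleton.elim (EtCoh.H (AL C) E.X₂ (q' + 1 + 1)) (hH₁ (q' + 1)) _ _)
    rw [@Subsingleton.elim (EtCoh.H (AL C) E.X₃ (q' + 1)) (ihi E.X₃ hG₂ (by omega) hT₂ hP₂ (q' + 1) (by omega)) x 0,
      map_zero]

/-- The coordinate ring of the affine line over affine space. -/
def lineEquiv (s : ℕ) : MvPolynomial (ChartVar 1 (0 : Fin 2)) (MvPolynomial (Fin s) k) ≃+* MvPolynomial (Fin (s + 1)) k :=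
  haveI : Unique (ChartVar 1 (0 : Fin 2)) :=
    ⟨⟨⟨1, by decide⟩⟩, fun a => match a with
      | ⟨⟨0, _⟩, h⟩ => absurd rfl h
      | ⟨⟨1, _⟩, _⟩ => rfl⟩
  (MvPolynomial.uniqueAlgEquiv (MvPolynomial (Fin s) k) (ChartVar 1 (0 : Fin 2))).toRingEquiv.trans
    (MvPolynomial.finSuccEquiv k s).toRingEquiv.symm

include hℓ in
/-- Affine Lefschetz. -/
theorem affBound : ∀ m, AffBound.{u} ℓ m := by
  intro m
  induction m using Nat.strong_induction_on with
  | _ m ih =>
    intro K _ e he X _ f _ hX
    refine cdLE_of_algClosed K he X f fun k _ _ _ _ => ?_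
    let r := Spec.map (CommRingCat.ofHom (algebraMap K k))
    let X' := pullback f r
    haveI : IsIntegralHom r := IsIntegralHom.SpecMap_iff.mpr (algebraMap_isIntegral_iff.mpr inferInstance)
    haveI : IsIntegralHom (pullback.fst f r) := MorphismProperty.pullback_fst (P := @IsIntegralHom) _ _ inferInstance
    haveI : IsAffine X' := isAffine_of_isAffineHom (pullback.fst f r)
    haveI : LocallyOfFiniteType (pullback.snd f r) :=
      MorphismProperty.pullback_snd (P := @LocallyOfFiniteType) _ _ inferInstance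
    have hX' : topologicalKrullDim X' ≤ m := (Groth.L19.topologicalKrullDim_le_of_isIntegralHom (pullback.fst f r)).trans hX
    let A := Γ(X', ⊤)
    letI : Algebra k A := ((Scheme.ΓSpecIso (CommRingCat.of k)).inv ≫ (pullback.snd f r).appTop).hom.toAlgebra
    haveI : Algebra.FiniteType k A := RingHom.finiteType_algebraMap.mp
      (((HasRingHomProperty.iff_of_isAffine (P := @LocallyOfFiniteType)).1 inferInstance).comp
        (RingHom.FiniteType.of_surjective _ ((Scheme.ΓSpecIso (CommRingCat.of k)).symm.commRingCatIsoToRingEquiv.surjective)))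
    have hA : ringKrullDim A ≤ m := by
      refine (PrimeSpectrum.topologicalKrullDim_eq_ringKrullDim A).symm.trans_le ?_
      exact (X'.isoSpec.hom.homeomorph.isHomeomorph.topologicalKrullDim_eq).symm.trans_le hX'
    rcases subsingleton_or_nontrivial A with hA0 | hA0
    · haveI : IsEmpty ↥X' := Function.isEmpty (β := PrimeSpectrum A) fun x => X'.isoSpec.hom x
      exact fun G _ q _ => Devissage.of_isZero (DimFun.isZero_of_supp fun z _ => (IsEmpty.false z).elim) q
    obtain ⟨s, g, hg, hfin⟩ := exists_finite_inj_algHom_of_fg k A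
    letI := g.toRingHom.toAlgebra
    haveI : Algebra.IsIntegral (MvPolynomial (Fin s) k) A := ⟨RingHom.Finite.to_isIntegral hfin⟩
    have hsm : s ≤ m := by
      rw [Groth.L22.AffineDim.ringKrullDim_eq_of_isIntegral (R := MvPolynomial (Fin s) k) hg,
        MvPolynomial.ringKrullDim_of_isNoetherianRing, ringKrullDim_eq_zero_of_field, zero_add, Nat.card_fin] at hA
      exact_mod_cast hA
    haveI : IsIntegralHom (Spec.map (CommRingCat.ofHom (algebraMap (MvPolynomial (Fin s) k) A))) :=
      IsIntegralHom.SpecMap_iff.mpr (algebraMap_isIntegral_iff.mpr inferInstance)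
    suffices H : FieldTower.CdLE ℓ (Spec (CommRingCat.of (MvPolynomial (Fin s) k))) s from
      fun G hG q hq => (H.of_integral (X'.isoSpec.hom ≫
        Spec.map (CommRingCat.ofHom (algebraMap (MvPolynomial (Fin s) k) A)))) G hG q (by omega)
    cases s with
    | zero =>
      let e := (MvPolynomial.isEmptyAlgEquiv k (Fin 0)).toRingEquiv.symm
      refine FieldTower.CdLE.of_integral (Y := Spec (CommRingCat.of k)) (Spec.map e.toCommRingCatIso.hom) ?_
      intro G _ r hr
      obtain ⟨i, rfl⟩ : ∃ i, r = i + 1 := ⟨r - 1, by omega⟩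
      exact CurveCd.subsingleton_H_sepClosed _ G i
    | succ s =>
      exact (cdLE_AL hℓ k (C := MvPolynomial (Fin s) k) (s := s)
        (by rw [MvPolynomial.ringKrullDim_of_isNoetherianRing, ringKrullDim_eq_zero_of_field, zero_add, Nat.card_fin])
        fun j hj => ih j (by omega)).of_integral (Spec.map (lineEquiv k s).toCommRingCatIso.hom)

theorem cohDimLE_affine (K : Type u) [Field K] (X : Scheme.{u}) [IsAffine X]
    (f : X ⟶ Spec (CommRingCat.of K)) [LocallyOfFiniteType f] (d e : ℕ) (hd : topologicalKrullDim X ≤ d)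
    (hK : EtCoh.CohDimLE (Spec (CommRingCat.of K)) e) : EtCoh.CohDimLE X (d + e) :=
  cohDimLE_of_primes fun ℓ hℓ => (add_comm e d) ▸ affBound hℓ d K e (cdLE_of_cohDimLE hK ℓ) X f hd

end Groth.L28.AffLef
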