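import Groth.Agent.L16.ProjSpace.Basic
import Groth.Agent.L19.DimTrdeg
import Groth.Agent.L15.CohFlat
import Groth.Agent.L27.Acyclic0.BaseChange
import Mathlib.RingTheory.KrullDimension.Polynomial

/-! # The affine line inside the projective line -/

set_option autoImplicit false
set_option linter.style.haveILetI false
set_option linter.unusedSectionVars false
set_option backward.isDefEq.respectTransparency.types false

universe u

open CategoryTheory CategoryTheory.Limits AlgebraicGeometry Opposite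
open Groth.L16.ProjSpace

noncomputable section

namespace Groth.L28.AffLef

variable (C : Type u) [CommRing C]

/-- The projective line. -/
abbrev PL : Scheme.{u} := CohB1.ProjSpace 1 C

/-- The affine line. -/
abbrev AL : Scheme.{u} := Spec (CommRingCat.of (MvPolynomial (ChartVar 1 (0 : Fin 2)) C))

/-- The affine line in the projective line. -/
abbrev j₀ : AL C ⟶ PL C := chart 1 C 0

/-- The coordinate at infinity. -/
def T₁ : MvPolynomial (ChartVar 1 (1 : Fin 2)) C := MvPolynomial.X ⟨0, by decide⟩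

theorem chart_one_preimage :
    chart 1 C 1 ⁻¹ᵁ (j₀ C).opensRange = PrimeSpectrum.basicOpen (T₁ C) := by
  have hg : (MvPolynomial.X 0 : MvPolynomial (Fin 2) C) ∈ CohB1.polyGrading 1 C 1 := X_mem 1 C 0
  have he : (awayEquiv 1 C 1).symm (HomogeneousLocalization.Away.isLocalizationElem (X_mem 1 C 1) hg) = T₁ C := by
    rw [RingEquiv.symm_apply_eq]
    refine Eq.trans ?_ (toAway_X 1 C 1 ⟨0, by decide⟩).symm
    apply HomogeneousLocalization.val_injective
    rw [HomogeneousLocalization.Away.val_mk]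
    show _ = Localization.mk _ _
    simp only [pow_one]
  rw [opensRange_chart]
  show (Spec.map _ ≫ chartAway 1 C 1) ⁻¹ᵁ _ = _
  rw [Scheme.Hom.comp_preimage, chartAway]
  refine (congrArg (fun U => Spec.map (CommRingCat.ofHom (awayEquiv 1 C 1).symm.toRingHom) ⁻¹ᵁ U)
    (Proj.awayι_preimage_basicOpen (CohB1.polyGrading 1 C) (X_mem 1 C 1) one_pos hg one_pos)).trans ?_
  ext P
  show (awayEquiv 1 C 1).symm _ ∉ P.asIdeal ↔ _
  rw [he]
  rfl

theorem mem_chart_one {x : PL C} (hx : x ∉ (j₀ C).opensRange) : x ∈ (chart 1 C 1).opensRange := by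
  obtain ⟨i, hi⟩ := exists_mem_basicOpen_X 1 C x
  rw [opensRange_chart] at hx ⊢
  fin_cases i
  · exact absurd hi hx
  · exact hi

theorem exists_zeroSection {x : PL C} (hx : x ∉ (j₀ C).opensRange) : ∃ p, zeroSection 1 C 1 p = x := by
  obtain ⟨q, rfl⟩ := mem_chart_one C hx
  have hq : T₁ C ∈ (q : PrimeSpectrum (MvPolynomial (ChartVar 1 (1 : Fin 2)) C)).asIdeal := by
    by_contra h
    exact hx ((chart_one_preimage C).ge h : q ∈ chart 1 C 1 ⁻¹ᵁ (j₀ C).opensRange)
  let ev : MvPolynomial (ChartVar 1 (1 : Fin 2)) C →+* C := MvPolynomial.eval fun _ => 0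
  have hs : Function.Surjective ev := fun c => ⟨MvPolynomial.C c, MvPolynomial.eval_C c⟩
  haveI : Subsingleton (ChartVar 1 (1 : Fin 2)) := ⟨fun a b => Subtype.ext (by
    have ha := a.2; have hb := b.2
    omega)⟩
  have hker : RingHom.ker ev ≤ (q : PrimeSpectrum (MvPolynomial (ChartVar 1 (1 : Fin 2)) C)).asIdeal := by
    intro P hP
    obtain ⟨Q, hQ⟩ : ∃ Q, P = MvPolynomial.C (ev P) + T₁ C * Q := by
      clear hP
      induction P using MvPolynomial.induction_on with
      | C a => exact ⟨0, by simp [ev]⟩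
      | add a b iha ihb =>
        obtain ⟨Qa, ha⟩ := iha
        obtain ⟨Qb, hb⟩ := ihb
        refine ⟨Qa + Qb, ?_⟩
        conv_lhs => rw [ha, hb]
        rw [map_add ev, map_add]
        ring
      | mul_X a i _ => exact ⟨a, by simp [ev, T₁, Subsingleton.elim i ⟨0, by decide⟩, mul_comm]⟩
    rw [hQ, show ev P = 0 from hP, map_zero, zero_add]
    exact Ideal.mul_mem_right _ _ hq
  obtain ⟨p, hp⟩ : (q : PrimeSpectrum (MvPolynomial (ChartVar 1 (1 : Fin 2)) C)) ∈ Set.range (PrimeSpectrum.comap ev) := by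
    rw [range_comap_of_surjective _ _ hs]
    exact hker
  refine ⟨p, ?_⟩
  exact (Scheme.Hom.comp_apply _ _ _).trans (congrArg (chart 1 C 1) hp)

theorem eq_of_not_mem {x x' : PL C} (hx : x ∉ (j₀ C).opensRange) (hx' : x' ∉ (j₀ C).opensRange)
    (h : CohB1.ProjSpace.toSpec 1 C x = CohB1.ProjSpace.toSpec 1 C x') : x = x' := by
  obtain ⟨p, rfl⟩ := exists_zeroSection C hx
  obtain ⟨p', rfl⟩ := exists_zeroSection C hx'
  have e : ∀ q, CohB1.ProjSpace.toSpec 1 C (zeroSection 1 C 1 q) = q := fun q =>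
    (Scheme.Hom.comp_apply _ _ _).symm.trans (congrArg (fun m : Spec (CommRingCat.of C) ⟶ _ => m q)
      (zeroSection_toSpec 1 C 1))
  rw [e, e] at h
  rw [h]

theorem dim_chart_fibre (T : Type u) [Field T] (i : Fin 2) (a : Spec (CommRingCat.of T) ⟶ Spec (CommRingCat.of C)) :
    topologicalKrullDim ↥(pullback (Spec.map (CommRingCat.ofHom (MvPolynomial.C : C →+* MvPolynomial (ChartVar 1 i) C))) a) ≤ 1 := by
  obtain ⟨φ, rfl⟩ := Spec.map_surjective a
  letI : Algebra C T := φ.hom.toAlgebra
  let e : pullback (Spec.map (CommRingCat.ofHom (algebraMap C (MvPolynomial (ChartVar 1 i) C))))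
      (Spec.map (CommRingCat.ofHom (algebraMap C T))) ≅ Spec (CommRingCat.of (TensorProduct C (MvPolynomial (ChartVar 1 i) C) T)) :=
    pullbackSpecIso _ _ _
  refine (e.hom.homeomorph.isHomeomorph.topologicalKrullDim_eq.trans_le ?_)
  refine (PrimeSpectrum.topologicalKrullDim_eq_ringKrullDim _).trans_le ?_
  rw [ringKrullDim_eq_of_ringEquiv ((Algebra.TensorProduct.comm C _ T).trans
      (MvPolynomial.scalarRTensorAlgEquiv.restrictScalars C)).toRingEquiv,
    MvPolynomial.ringKrullDim_of_isNoetherianRing, ringKrullDim_eq_zero_of_field, natCard_chartVar]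
  simp

/-- Fibres of the projective line have dimension at most one. -/
theorem dim_fibre (T : Type u) [Field T] (a : Spec (CommRingCat.of T) ⟶ Spec (CommRingCat.of C)) :
    topologicalKrullDim ↥(pullback (CohB1.ProjSpace.toSpec 1 C) a) ≤ 1 := by
  refine Groth.L19.DimTrdeg.dim_le_of_stalks fun z => ?_
  obtain ⟨i, hi⟩ := exists_mem_basicOpen_X 1 C (pullback.fst (CohB1.ProjSpace.toSpec 1 C) a z)
  rw [← opensRange_chart] at hi
  let c := pullback.fst (pullback.fst (CohB1.ProjSpace.toSpec 1 C) a) (chart 1 C i)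
  haveI : IsOpenImmersion c := MorphismProperty.pullback_fst (P := @IsOpenImmersion) _ _ inferInstance
  obtain ⟨q, hq⟩ := hi
  obtain ⟨w, hw, -⟩ := Scheme.Pullback.exists_preimage_pullback (f := pullback.fst (CohB1.ProjSpace.toSpec 1 C) a)
    (g := chart 1 C i) z q hq.symm
  subst hw
  rw [ringKrullDim_eq_of_ringEquiv (asIso (c.stalkMap w)).commRingCatIsoToRingEquiv]
  refine (Groth.L15.CohFlat.ringKrullDim_stalk_le _).trans ?_
  let e := pullbackSymmetry _ _ ≪≫ pullbackRightPullbackFstIso (CohB1.ProjSpace.toSpec 1 C) a (chart 1 C i) ≪≫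
    pullback.congrHom (chart_toSpec 1 C i) rfl
  exact e.hom.homeomorph.isHomeomorph.topologicalKrullDim_eq.trans_le (dim_chart_fibre C T i a)

/-- Off the affine line a strict localisation meets it in a principal open. -/
theorem exists_coordinate {x : PL C} (hx : x ∉ (j₀ C).opensRange) (S : Type u) [CommRing S] [IsLocalRing S]
    [Algebra ((PL C).presheaf.stalk x) S] [IsLocalHom (algebraMap ((PL C).presheaf.stalk x) S)] :
    ∃ f ∈ IsLocalRing.maximalIdeal S,
      Set.range (pullback.snd (j₀ C) (Hens2.specOf (PL C) x S)).base = (PrimeSpectrum.basicOpen f : Set (PrimeSpectrum S)) := by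
  have hr : Set.range (Hens2.specOf (PL C) x S) ⊆ Set.range (chart 1 C 1) := by
    rintro _ ⟨s, rfl⟩
    have h1 : Hens2.specOf (PL C) x S s ⤳ x := by
      refine ((PL C).range_fromSpecStalk (x := x)).le ⟨_, (Scheme.Hom.comp_apply _ _ _).symm⟩
    exact h1.mem_open (chart 1 C 1).opensRange.2 (mem_chart_one C hx)
  let l := IsOpenImmersion.lift (chart 1 C 1) (Hens2.specOf (PL C) x S) hr
  have hl : l ≫ chart 1 C 1 = Hens2.specOf (PL C) x S := IsOpenImmersion.lift_fac _ _ hr
  let ψ := Spec.preimage l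
  have hrange : ∀ s, s ∈ Set.range (pullback.snd (j₀ C) (Hens2.specOf (PL C) x S)).base ↔
      s ∈ PrimeSpectrum.basicOpen (ψ.hom (T₁ C)) := by
    intro s
    rw [Scheme.Pullback.range_snd]
    show Hens2.specOf (PL C) x S s ∈ (j₀ C).opensRange ↔ _
    rw [← hl, Scheme.Hom.comp_apply]
    show l s ∈ chart 1 C 1 ⁻¹ᵁ (j₀ C).opensRange ↔ _
    rw [chart_one_preimage, ← Spec.map_preimage l]
    rfl
  refine ⟨ψ.hom (T₁ C), ?_, Set.ext hrange⟩
  by_contra hm
  have := (hrange (IsLocalRing.closedPoint S)).2 hm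
  rw [Scheme.Pullback.range_snd] at this
  refine hx ?_
  rwa [Set.mem_preimage, show Hens2.specOf (PL C) x S (IsLocalRing.closedPoint S) = x from
    (Scheme.Hom.comp_apply _ _ _).trans ((congrArg ((PL C).fromSpecStalk x) (IsLocalRing.comap_closedPoint _)).trans
      Scheme.fromSpecStalk_closedPoint)] at this

end Groth.L28.AffLef
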