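import Groth.Agent.L28.FieldTower.Tensor
import Groth.Agent.L19.DimTrdeg
import Groth.Agent.L15.CohFlat
import Groth.Agent.S0120
import Mathlib.RingTheory.Jacobson.Ring
import Mathlib.AlgebraicGeometry.Morphisms.FiniteType
import Mathlib.AlgebraicGeometry.Pullbacks

/-! # The generic fibre of a function -/

set_option autoImplicit false
set_option linter.style.haveILetI false
set_option linter.unusedSectionVars false
set_option backward.isDefEq.respectTransparency.types false

universe u

open CategoryTheory CategoryTheory.Limits AlgebraicGeometry Opposite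
open scoped TensorProduct

noncomputable section

namespace Groth.L28.AffLef

variable (k : Type u) [Field k] (B : Type u) [CommRing B] [Algebra (Polynomial k) B]

/-- The generic fibre of a function. -/
abbrev GenFib : Type u := B ⊗[Polynomial k] FieldTower.RatF k

theorem ringKrullDim_genFib_le [Algebra.FiniteType (Polynomial k) B] {m : ℕ}
    (hB : ringKrullDim B ≤ (m + 1 : ℕ)) : ringKrullDim (GenFib k B) ≤ (m : ℕ) := by
  let P := Polynomial k
  let M := Algebra.algebraMapSubmonoid B (nonZeroDivisors P)
  refine iSup_le fun p => ?_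
  let g : PrimeSpectrum (GenFib k B) → PrimeSpectrum B := PrimeSpectrum.comap (algebraMap B (GenFib k B))
  have hg : StrictMono g := fun a b hab => by
    refine lt_of_le_of_ne (Ideal.comap_mono hab.le) fun e => hab.ne ?_
    exact (PrimeSpectrum.localization_comap_injective (GenFib k B) M) e
  let Q := g p.last
  have hdisj : Disjoint (M : Set B) Q.asIdeal :=
    ((IsLocalization.isPrime_iff_isPrime_disjoint M (GenFib k B) p.last.asIdeal).1 inferInstance).2
  have hQ : ¬ Q.asIdeal.IsMaximal := fun hmax => by
    letI : Algebra k B := ((algebraMap P B).comp Polynomial.C).toAlgebra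
    haveI : IsScalarTower k P B := IsScalarTower.of_algebraMap_eq' rfl
    haveI : Algebra.FiniteType k B := Algebra.FiniteType.trans (inferInstance : Algebra.FiniteType k P) inferInstance
    haveI := hmax
    letI := Ideal.Quotient.field Q.asIdeal
    haveI : Module.Finite k (B ⧸ Q.asIdeal) := finite_of_finite_type_of_isJacobsonRing k (B ⧸ Q.asIdeal)
    haveI : Algebra.IsIntegral k (B ⧸ Q.asIdeal) := Algebra.IsIntegral.of_finite k _
    obtain ⟨h, hh, hh0⟩ := (Algebra.IsIntegral.isIntegral (R := k)
      (algebraMap P (B ⧸ Q.asIdeal) Polynomial.X))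
    have hmem : algebraMap P B h ∈ Q.asIdeal := by
      rw [← Ideal.Quotient.eq_zero_iff_mem]
      show algebraMap P (B ⧸ Q.asIdeal) h = 0
      have e : (algebraMap P (B ⧸ Q.asIdeal)) h =
          Polynomial.eval₂ (algebraMap k (B ⧸ Q.asIdeal)) (algebraMap P (B ⧸ Q.asIdeal) Polynomial.X) h := by
        have e' : (algebraMap P (B ⧸ Q.asIdeal)) = Polynomial.eval₂RingHom (algebraMap k (B ⧸ Q.asIdeal))
            (algebraMap P (B ⧸ Q.asIdeal) Polynomial.X) := Polynomial.ringHom_ext (fun a => by
              rw [Polynomial.coe_eval₂RingHom, Polynomial.eval₂_C]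
              rfl) (by rw [Polynomial.coe_eval₂RingHom, Polynomial.eval₂_X])
        exact RingHom.congr_fun e' h
      rw [e]
      exact hh0
    exact Set.disjoint_left.1 hdisj ⟨h, mem_nonZeroDivisors_of_ne_zero hh.ne_zero, rfl⟩ hmem
  obtain ⟨N, hN, hQN⟩ := Ideal.exists_le_maximal Q.asIdeal Q.2.ne_top
  let q : LTSeries (PrimeSpectrum B) := (p.map g hg).snoc ⟨N, hN.isPrime⟩ (by
    rw [LTSeries.last_map]
    show Q < ⟨N, hN.isPrime⟩
    exact lt_of_le_of_ne hQN fun e => hQ ((congrArg PrimeSpectrum.asIdeal e) ▸ hN))
  have h := (Order.LTSeries.length_le_krullDim q).trans hB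
  have hl : q.length = p.length + 1 := rfl
  rw [hl] at h
  have h' : p.length + 1 ≤ m + 1 := by exact_mod_cast h
  exact_mod_cast (show p.length ≤ m by omega)

theorem topologicalKrullDim_genFib_le [Algebra.FiniteType (Polynomial k) B] {m : ℕ}
    (hB : ringKrullDim B ≤ (m + 1 : ℕ)) : topologicalKrullDim ↥(Spec (CommRingCat.of (GenFib k B))) ≤ (m : ℕ) :=
  (PrimeSpectrum.topologicalKrullDim_eq_ringKrullDim (GenFib k B)).trans_le (ringKrullDim_genFib_le k B hB)

/-- The projection to the rational function field. -/
def genFibHom : Spec (CommRingCat.of (GenFib k B)) ⟶ Spec (CommRingCat.of (FieldTower.RatF k)) :=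
  (pullbackSpecIso (Polynomial k) B (FieldTower.RatF k)).inv ≫ pullback.snd _ _

instance lft_genFibHom [h : Algebra.FiniteType (Polynomial k) B] : LocallyOfFiniteType (genFibHom k B) := by
  haveI : LocallyOfFiniteType (Spec.map (CommRingCat.ofHom (algebraMap (Polynomial k) B))) := by
    rw [HasRingHomProperty.Spec_iff (P := @LocallyOfFiniteType)]
    exact RingHom.finiteType_algebraMap.mpr h
  haveI : LocallyOfFiniteType (pullback.snd (Spec.map (CommRingCat.ofHom (algebraMap (Polynomial k) B)))
      (Spec.map (CommRingCat.ofHom (algebraMap (Polynomial k) (FieldTower.RatF k))))) :=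
    MorphismProperty.pullback_snd (P := @LocallyOfFiniteType) _ _ inferInstance
  exact inferInstanceAs (LocallyOfFiniteType ((pullbackSpecIso (Polynomial k) B (FieldTower.RatF k)).inv ≫
    pullback.snd _ _))

theorem topologicalKrullDim_le_of_etale {X Y : Scheme.{u}} (f : X ⟶ Y) [AlgebraicGeometry.Etale f]
    [IsLocallyNoetherian Y] {m : WithBot ℕ∞} (h : topologicalKrullDim Y ≤ m) : topologicalKrullDim X ≤ m :=
  Groth.L19.DimTrdeg.dim_le_of_stalks fun x => by
    rw [Groth.Agent.S0120.result f x]
    exact (Groth.L15.CohFlat.ringKrullDim_stalk_le _).trans h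

end Groth.L28.AffLef
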