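import Groth.Agent.L28.SHClosed.Model
import Groth.Agent.L27.StalkRpush.Ring
import Groth.Agent.L05.Henselization.Fibres

/-! # A strictly local ring over a field as a colimit over a separably closed field -/

set_option autoImplicit false
set_option linter.style.haveILetI false
set_option linter.unusedSectionVars false
set_option backward.isDefEq.respectTransparency.types false

universe u

open CategoryTheory AlgebraicGeometry IsLocalRing

noncomputable section

namespace Groth.L28.AffLef

open Groth.L27 Groth.L05.Henselization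

/-- A strict henselisation of an algebraic scheme at any point, seen from a separably closed field
over which the point becomes closed. -/
theorem exists_sep_model (k : Type u) [Field k] (X : Scheme.{u}) (fX : X ⟶ Spec (CommRingCat.of k))
    [LocallyOfFiniteType fX] (z : X) (A : Type u) [CommRing A] [IsLocalRing A] [Algebra (X.presheaf.stalk z) A]
    [IsLocalHom (algebraMap (X.presheaf.stalk z) A)] [Hensel.IsStrictHenselization (X.presheaf.stalk z) A] :
    ∃ (k' : Type u) (_ : Field k') (_ : IsSepClosed k') (B : Type u) (_ : CommRing B) (_ : Algebra k' B)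
      (_ : Algebra.FiniteType k' B) (_ : Algebra B A) (_ : Algebra k' A) (_ : IsScalarTower k' B A)
      (_ : IsSepClosed (ResidueField A)),
      Nonempty (Col B (ResidueField A) ≃ₐ[B] A) ∧ ((maximalIdeal A).comap (algebraMap B A)).IsMaximal := by
  obtain ⟨σ, _, p, _, hp, Rh, _, _, _, _, hRh, X', f', _, _, x', hx', -, _, _, hS⟩ :=
    Groth.Agent.L28.SHClosed.exists_model k fX z (Subsingleton.elim (α := PrimeSpectrum k) _ _) A
  have hp0 : p = ⊥ := by
    rw [hp, Ideal.eq_bot_of_prime (maximalIdeal k)]
    exact Ideal.map_bot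
  have hmax : maximalIdeal Rh = ⊥ := by
    refine eq_bot_iff.2 fun a ha => ?_
    obtain ⟨t, ht, hta⟩ := hasReducedPointFibres_strict (Localization.AtPrime p) Rh (maximalIdeal Rh) inferInstance a ha
    have h0 : (maximalIdeal Rh).comap (algebraMap (Localization.AtPrime p) Rh) = ⊥ := by
      rw [IsLocalRing.maximalIdeal_comap, ← Localization.AtPrime.map_eq_maximalIdeal]
      exact (congrArg (Ideal.map (algebraMap (MvPolynomial σ k) (Localization.AtPrime p))) hp0).trans Ideal.map_bot
    rw [h0, Ideal.map_bot, Ideal.mem_bot] at hta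
    exact (Ideal.mem_bot).2 ((notMem_maximalIdeal.1 ht).mul_right_eq_zero.1 hta)
  have hfield : IsField Rh := (IsLocalRing.isField_iff_maximalIdeal_eq).2 hmax
  letI : Field Rh := hfield.toField
  haveI : IsSepClosed Rh := by
    haveI : IsSepClosed (ResidueField Rh) := hRh.isSepClosure.sep_closed
    let eR : ResidueField Rh ≃+* Rh := (Ideal.quotEquivOfEq hmax).trans (RingEquiv.quotientBot Rh)
    exact IsSepClosed.of_exists_root _ fun P hPm hirr hsep => by
      obtain ⟨x, hx⟩ := IsSepClosed.exists_root (P.map eR.symm.toRingHom)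
        (by rw [Polynomial.degree_map]; exact hirr.degree_pos.ne') (hsep.map (f := eR.symm.toRingHom))
      refine ⟨eR x, eR.symm.injective ?_⟩
      rw [map_zero, ← hx.eq_zero, Polynomial.eval_map, show eR.symm (P.eval (eR x)) =
        eR.symm.toRingHom (P.eval (eR x)) from rfl, ← Polynomial.eval₂_at_apply]
      simp
  obtain ⟨U, hU, hxU, -⟩ :=
    exists_isAffineOpen_mem_and_subset (X := X') (x := x') (U := ⊤) (TopologicalSpace.Opens.mem_top x')
  let B := Γ(X', U)
  let O := X'.presheaf.stalk x'
  have le : U ≤ f' ⁻¹ᵁ ⊤ := le_top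
  letI : Algebra Rh B := ((Scheme.ΓSpecIso (CommRingCat.of Rh)).inv ≫ f'.appLE ⊤ U le).hom.toAlgebra
  haveI : Algebra.FiniteType Rh B :=
    RingHom.finiteType_algebraMap.mp ((LocallyOfFiniteType.finiteType_appLE f' (isAffineOpen_top _) hU le).comp
      (RingHom.FiniteType.of_surjective _
        ((Scheme.ΓSpecIso (CommRingCat.of Rh)).symm.commRingCatIsoToRingEquiv.surjective)))
  letI : Algebra B O := (X'.presheaf.germ U x' hxU).hom.toAlgebra
  let q₀ := (hU.primeIdealOf ⟨x', hxU⟩).asIdeal
  haveI : IsLocalization.AtPrime O q₀ := hU.isLocalization_stalk ⟨x', hxU⟩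
  letI : Algebra B A := ((algebraMap O A).comp (algebraMap B O)).toAlgebra
  haveI : IsScalarTower B O A := IsScalarTower.of_algebraMap_eq' rfl
  haveI : IsSepClosed (ResidueField A) := hS.isSepClosure.sep_closed
  obtain ⟨e, -⟩ := StalkRpush.exists_algEquiv B q₀ O A
  letI : Algebra Rh A := ((algebraMap B A).comp (algebraMap Rh B)).toAlgebra
  haveI : IsScalarTower Rh B A := IsScalarTower.of_algebraMap_eq' rfl
  refine ⟨Rh, inferInstance, inferInstance, B, inferInstance, inferInstance, inferInstance, inferInstance,
    inferInstance, inferInstance, inferInstance, ⟨e⟩, ?_⟩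
  have hmax0 : q₀.IsMaximal := by
    have h1 : IsClosed ({(⟨x', hxU⟩ : U)} : Set U) := by
      rw [show ({(⟨x', hxU⟩ : U)} : Set U) = Subtype.val ⁻¹' {x'} from Set.ext fun w => Subtype.ext_iff]
      exact hx'.preimage continuous_subtype_val
    have h2 : IsClosed ({hU.primeIdealOf ⟨x', hxU⟩} : Set (PrimeSpectrum B)) := by
      have := hU.isoSpec.hom.homeomorph.isClosedMap ({(⟨x', hxU⟩ : U)} : Set U) h1
      exact (congrArg IsClosed Set.image_singleton).mp this
    exact (PrimeSpectrum.isClosed_singleton_iff_isMaximal _).1 h2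
  rw [show algebraMap B A = (algebraMap O A).comp (algebraMap B O) from rfl, ← Ideal.comap_comap,
    IsLocalRing.maximalIdeal_comap]
  rw [show (maximalIdeal O).comap (algebraMap B O) = q₀ from IsLocalization.AtPrime.under_maximalIdeal O q₀]
  exact hmax0

end Groth.L28.AffLef
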