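import Groth.Agent.L28.AffLef.TrdegDim
import Groth.Agent.L28.AffLef.SepModel
import Groth.Agent.L28.FieldTower.Main
import Groth.Agent.L28.CurveCd.Main

/-! # Cohomological dimension of the fraction fields of strictly local rings -/

set_option autoImplicit false
set_option linter.style.haveILetI false
set_option linter.unusedSectionVars false
set_option backward.isDefEq.respectTransparency.types false

universe u

open CategoryTheory CategoryTheory.Limits AlgebraicGeometry Opposite IsLocalRing

noncomputable section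

namespace Groth.L28.AffLef

open Groth.L05.Henselization

/-- The fraction field of a quotient of dimension `e` has dimension at most `e`. -/
theorem cdLE_fractionRing_quot {ℓ : ℕ} (hℓ : ℓ.Prime) (k : Type u) [Field k] (Y : Scheme.{u})
    (g : Y ⟶ Spec (CommRingCat.of k)) [LocallyOfFiniteType g] (y : Y)
    (R : Type u) [CommRing R] [IsLocalRing R] [Algebra (Y.presheaf.stalk y) R]
    [IsLocalHom (algebraMap (Y.presheaf.stalk y) R)] [Hensel.IsStrictHenselization (Y.presheaf.stalk y) R]
    (P : Ideal R) [P.IsPrime] (e : ℕ) (he : ringKrullDim (R ⧸ P) ≤ e) :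
    FieldTower.CdLE ℓ (Spec (CommRingCat.of (FractionRing (R ⧸ P)))) e := by
  haveI : IsLocallyNoetherian Y := LocallyOfFiniteType.isLocallyNoetherian g
  haveI : IsNoetherianRing R :=
    (isNoetherianRing_iff_strict (Y.presheaf.stalk y) R).1 inferInstance
  obtain ⟨k', _, _, B, _, _, _, _, _, _, _, ⟨eB⟩, hmax⟩ := exists_sep_model k Y g y R
  haveI := hmax
  have h := trdeg_quot_le (k := k') eB P e he
  let Q := FractionRing (R ⧸ P)
  haveI : Algebra.IsAlgebraic (R ⧸ P) Q := IsLocalization.isAlgebraic _ (nonZeroDivisors (R ⧸ P))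
  haveI : FaithfulSMul (R ⧸ P) Q :=
    (faithfulSMul_iff_algebraMap_injective _ _).2 (IsFractionRing.injective (R ⧸ P) Q)
  haveI : FaithfulSMul k' (R ⧸ P) := (faithfulSMul_iff_algebraMap_injective _ _).2 (algebraMap k' (R ⧸ P)).injective
  have hQ : Algebra.trdeg k' Q ≤ (e : Cardinal) := by
    rw [← trdeg_add_eq k' (R ⧸ P) (A := Q), trdeg_eq_zero (R := R ⧸ P) (A := Q), add_zero]
    exact h
  obtain ⟨m, hm⟩ := Cardinal.lt_aleph0.1 (hQ.trans_lt Cardinal.natCast_lt_aleph0)
  have hme : m ≤ e := by
    rw [hm] at hQ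
    exact_mod_cast hQ
  have h0 : FieldTower.CdLE ℓ (Spec (CommRingCat.of k')) 0 := fun G _ r hr => by
    obtain ⟨i, rfl⟩ : ∃ i, r = i + 1 := ⟨r - 1, by omega⟩
    exact CurveCd.subsingleton_H_sepClosed _ G i
  exact fun G hG r hr => FieldTower.cdLE_of_trdeg hℓ m k' Q hm 0 h0 G hG r (by omega)

end Groth.L28.AffLef
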