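import Groth.Agent.L28.FieldTower.Main
import Groth.Agent.L28.Devissage.Closed
import Groth.Agent.L28.CurveCd.UDDim
import Groth.Agent.L28.DimFun.Basic

/-! # Torsion cohomology prime by prime, supports, and passage to the algebraic closure -/

set_option autoImplicit false
set_option linter.style.haveILetI false
set_option linter.unusedSectionVars false
set_option backward.isDefEq.respectTransparency.types false

universe u

open CategoryTheory CategoryTheory.Limits AlgebraicGeometry Opposite TopologicalSpace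

noncomputable section

namespace Groth.L28.AffLef

open Groth.L27 Groth.L27.LimCoh

variable {X : Scheme.{u}}

theorem cdLE_of_cohDimLE {d : ℕ} (h : EtCoh.CohDimLE X d) (ℓ : ℕ) : FieldTower.CdLE ℓ X d :=
  fun F hF q hq => h F (AffineEfface.isTorsion_of_isLTorsion hF) q hq

theorem nsmul_kernel_facMap (F : EtCoh.Ab X) (n : ℕ) : n.factorial • 𝟙 (kernel (Colim.facMap F n)) = 0 := by
  rw [← cancel_mono (kernel.ι (Colim.facMap F n)), Preadditive.nsmul_comp, Category.id_comp, zero_comp,
    ← Category.comp_id (kernel.ι (Colim.facMap F n)), ← Preadditive.comp_nsmul]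
  exact kernel.condition _

/-- Torsion cohomology vanishes where it does prime by prime. -/
theorem subsingleton_H_of_primes [CompactSpace X] [QuasiSeparatedSpace X] {q : ℕ} (F : EtCoh.Ab X)
    (hF : EtCoh.IsTorsion F) (P : EtCoh.Ab X → Prop) (hP : P F)
    (hmono : ∀ {G H : EtCoh.Ab X} (v : G ⟶ H) [Mono v], P H → P G)
    (hepi : ∀ {G H : EtCoh.Ab X} (v : G ⟶ H) [Epi v], P G → P H)
    (h : ∀ ℓ, ℓ.Prime → ∀ G : EtCoh.Ab X, EtAcyc.IsLTorsion {ℓ} G → P G → Subsingleton (EtCoh.H X G q)) :
    Subsingleton (EtCoh.H X F q) := by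
  have key : ∀ n, 0 < n → ∀ G : EtCoh.Ab X, n • 𝟙 G = 0 → P G → Subsingleton (EtCoh.H X G q) := by
    intro n
    induction n using Nat.strong_induction_on with
    | _ n ih =>
      intro hn G hG hPG
      rcases eq_or_ne n 1 with rfl | hn1
      · rw [one_nsmul] at hG
        exact Devissage.of_isZero ((IsZero.iff_id_eq_zero G).2 hG) q
      obtain ⟨ℓ, hℓ, m, rfl⟩ := Nat.exists_prime_and_dvd hn1
      have hm : 0 < m := Nat.pos_of_mul_pos_left hn
      let μ : G ⟶ G := ℓ • 𝟙 G
      let S := ShortComplex.mk (kernel.ι μ) (cokernel.π (kernel.ι μ)) (cokernel.condition _)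
      have hS : S.ShortExact := { exact := ShortComplex.exact_of_g_is_cokernel _ (cokernelIsCokernel _) }
      refine Devissage.middle hS q (h ℓ hℓ _ ?_ (hmono (kernel.ι μ) hPG))
        (ih m (lt_mul_of_one_lt_left hm hℓ.one_lt) hm _ ?_ (hepi (cokernel.π (kernel.ι μ)) hPG))
      · refine DerBC.Killed.isLTorsion ⟨ℓ ^ 1, FinCovCrit.primesIn_pow hℓ 1, ?_⟩
        rw [pow_one, ← cancel_mono (kernel.ι μ), Preadditive.nsmul_comp, Category.id_comp, zero_comp,
          ← Category.comp_id (kernel.ι μ), ← Preadditive.comp_nsmul]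
        exact kernel.condition μ
      · rw [← cancel_epi (cokernel.π (kernel.ι μ)), Preadditive.comp_nsmul, Category.comp_id, comp_zero,
          ← Category.id_comp (cokernel.π (kernel.ι μ)), ← Preadditive.nsmul_comp,
          ← kernel.lift_ι μ (m • 𝟙 G) (by
            simp only [μ, Preadditive.comp_nsmul, Category.comp_id, ← mul_nsmul']
            exact hG),
          Category.assoc, cokernel.condition, comp_zero]
  haveI : AB5OfSize.{u, u} (EtCoh.Ab X) := AB5OfSize_shrink.{u, u, u + 1, u + 1} _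
  haveI : HasExactColimitsOfShape (AsSmall.{u} ℕ) (EtCoh.Ab X) := inferInstance
  obtain ⟨hc⟩ := Colim.isColimit_torCocone F hF
  refine subsingleton_of_forall_eq 0 fun x => ?_
  obtain ⟨j, η, rfl⟩ := (Colim.commutes Colim.good (EtCore.topIsTerminal X) (hT₀ := ⟨‹_›, ‹_›⟩) q
    (Colim.torDiag F) (Colim.torCocone F) hc).1 x
  have hPj : P (kernel (Colim.facMap F (AsSmall.down.obj j))) :=
    hmono (G := kernel (Colim.facMap F (AsSmall.down.obj j))) (H := F)
      (kernel.ι (Colim.facMap F (AsSmall.down.obj j))) hP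
  rw [show η = 0 from @Subsingleton.elim _ (key _ (Nat.factorial_pos (AsSmall.down.obj j))
    (kernel (Colim.facMap F (AsSmall.down.obj j))) (nsmul_kernel_facMap F _) hPj) _ 0]
  exact map_zero _

theorem cohDimLE_of_primes [CompactSpace X] [QuasiSeparatedSpace X] {d : ℕ}
    (h : ∀ ℓ, ℓ.Prime → FieldTower.CdLE ℓ X d) : EtCoh.CohDimLE X d := fun F hF q hq =>
  subsingleton_H_of_primes F hF (fun _ => True) trivial (fun _ => fun _ => trivial) (fun _ => fun _ => trivial)
    fun ℓ hℓ G hG _ => h ℓ hℓ G hG q hq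

theorem supp_mono {G H : EtCoh.Ab X} (v : G ⟶ H) [Mono v] : EtPBC.supp G ⊆ EtPBC.supp H := by
  rintro y ⟨Ω, _, _, ξ, hξ, hne⟩
  refine ⟨Ω, inferInstance, inferInstance, ξ, hξ, fun h0 => hne ?_⟩
  haveI := AddCommGrpCat.subsingleton_of_isZero h0
  have hi := (EtSite.mono_iff_stalks v).1 inferInstance Ω ξ
  haveI := hi.subsingleton
  exact AddCommGrpCat.isZero_of_subsingleton _

theorem supp_epi {G H : EtCoh.Ab X} (v : G ⟶ H) [Epi v] : EtPBC.supp H ⊆ EtPBC.supp G := by
  rintro y ⟨Ω, _, _, ξ, hξ, hne⟩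
  refine ⟨Ω, inferInstance, inferInstance, ξ, hξ, fun h0 => hne ?_⟩
  haveI := AddCommGrpCat.subsingleton_of_isZero h0
  have hi := (EtSite.epi_iff_stalks v).1 inferInstance Ω ξ
  haveI := hi.subsingleton
  exact AddCommGrpCat.isZero_of_subsingleton _

theorem subsingleton_H_supp [AlgebraicGeometry.IsNoetherian X] {ℓ m : ℕ} (P : Set X)
    (hP : ∀ a b : X, a ⤳ b → a ∈ P → b ∈ P) (F : EtCoh.Ab X) (hF : EtAcyc.IsLTorsion {ℓ} F)
    (hs : EtPBC.supp F ⊆ P)
    (h : ∀ (Z : Scheme.{u}) (i : Z ⟶ X) [IsClosedImmersion i], Set.range i.base ⊆ P → FieldTower.CdLE ℓ Z m)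
    (q : ℕ) (hq : m < q) : Subsingleton (EtCoh.H X F q) := by
  refine CurveCd.subsingleton_H_of_supp P hP F hs q fun W hW => ?_
  obtain ⟨Z, i, hi, -, hr, -⟩ := Devissage.exists_reduced ((W : Set X)ᶜ) W.2.isClosed_compl
  haveI := hi
  haveI : UniversallyInjective i := inferInstance
  haveI := EtSite.preservesFiniteLimits_pull i
  let G := (EtDual.secSupp W.ι).obj F
  haveI : Mono ((Supp.secι W.ι).app F) := inferInstanceAs (Mono (kernel.ι _))
  haveI := (EtSite.isIso_unit_iff i (EtSite.propA_of_isIntegralHom i) G).2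
    ((CurveCd.supp_secSupp W F).trans hr.ge)
  exact Devissage.of_iso (asIso ((EtCoh.pullPushAdj i).unit.app G)) q (Devissage.of_push i _ q
    (h Z i (hr.le.trans hW) _ (CompTransfer.isLTorsion_pull {ℓ} i
      (DimFun.isLTorsion_of_mono ((Supp.secι W.ι).app F) hF)) q hq))

/-- Passage to the algebraic closure. -/
theorem cdLE_of_algClosed {ℓ : ℕ} (K : Type u) [Field K] {e d : ℕ}
    (he : FieldTower.CdLE ℓ (Spec (CommRingCat.of K)) e) (X : Scheme.{u}) (f : X ⟶ Spec (CommRingCat.of K))
    [QuasiCompact f] [QuasiSeparated f]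
    (h : ∀ (k : Type u) [Field k] [IsAlgClosed k] [Algebra K k] [Algebra.IsAlgebraic K k],
      FieldTower.CdLE ℓ (pullback f (Spec.map (CommRingCat.ofHom (algebraMap K k)))) d) :
    FieldTower.CdLE ℓ X (e + d) := by
  haveI : CompactSpace X := QuasiCompact.compactSpace_of_compactSpace f
  haveI : QuasiSeparatedSpace X := quasiSeparatedSpace_of_quasiSeparated f
  intro F hF q hq
  refine FieldTower.CdLE.of_leray f e he d F hF (fun b hb => ?_) q hq
  refine (EtSite.isZero_iff_stalks _).2 fun Ω _ _ ξ => ?_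
  obtain ⟨φ, rfl⟩ := Spec.map_surjective ξ
  letI : Algebra K Ω := φ.hom.toAlgebra
  let R := separableClosure K Ω
  haveI : IsSepClosure K R := separableClosure.isSepClosure K Ω
  haveI : IsSepClosed R := IsSepClosure.sep_closed K
  haveI : Algebra.IsAlgebraic K R := Algebra.IsSeparable.isAlgebraic K R
  obtain ⟨e'⟩ := StalkRpush.nonempty_natIso_chart f K (𝟙 _) Ω R (FieldTower.colEquiv K Ω) b
    (Spec.map φ) (Category.comp_id _).symm (StalkRpush.toBase K R) (Category.comp_id _).symm
  refine IsZero.of_iso ?_ (e'.app F)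
  let A := AlgebraicClosure R
  haveI : Algebra.IsAlgebraic K A := Algebra.IsAlgebraic.trans K R A
  haveI : IsPurelyInseparable R A := Algebra.IsAlgebraic.isPurelyInseparable_of_isSepClosed
  let p : Spec (CommRingCat.of A) ⟶ Spec (CommRingCat.of R) := Groth.L05.CurveNorm.ext R A
  haveI : IsIntegralHom p := IsIntegralHom.SpecMap_iff.mpr (algebraMap_isIntegral_iff.mpr inferInstance)
  haveI : UniversallyInjective p := Groth.L05.CurveNorm.universallyInjective_ext R A
  haveI : Surjective p := Groth.L05.CurveNorm.surjective_ext R A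
  let π := pullback.fst (pullback.snd f (StalkRpush.toBase K R)) p
  haveI : IsIntegralHom π := MorphismProperty.pullback_fst (P := @IsIntegralHom) _ _ inferInstance
  haveI : UniversallyInjective π := MorphismProperty.pullback_fst (P := @UniversallyInjective) _ _ inferInstance
  haveI : Surjective π := MorphismProperty.pullback_fst (P := @Surjective) _ _ inferInstance
  have hp : p ≫ StalkRpush.toBase K R = Spec.map (CommRingCat.ofHom (algebraMap K A)) := by
    refine (Spec.map_comp _ _).symm.trans (congrArg Spec.map (CommRingCat.hom_ext ?_))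
    exact (IsScalarTower.algebraMap_eq K R A).symm
  let ε : pullback (pullback.snd f (StalkRpush.toBase K R)) p ≅
      pullback f (Spec.map (CommRingCat.ofHom (algebraMap K A))) :=
    pullbackLeftPullbackSndIso f (StalkRpush.toBase K R) p ≪≫ pullback.congrHom rfl hp
  exact @AddCommGrpCat.isZero_of_subsingleton _
    ((FieldTower.CdLE.of_radicial π ((h A).of_integral ε.hom)) _ (CompTransfer.isLTorsion_pull _ _ hF) b hb)

end Groth.L28.AffLef
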