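import Groth.Agent.L28.FieldTower.Base
import Groth.Agent.L28.DimFun.Basic
import Groth.Agent.L27.StalkRpush.Final
import Groth.Agent.L27.PBC.GeomPoint
import Groth.Agent.L27.CompTransfer.Edge
import Groth.Agent.L27.ExtZero.Restr
import Groth.Agent.L05.Henselization.Strict
import Groth.Agent.L28.AffLef.Prime

/-! # Cohomology of an open subscheme from the fibres at the missing points -/

set_option autoImplicit false
set_option linter.style.haveILetI false
set_option linter.unusedSectionVars false
set_option backward.isDefEq.respectTransparency.types false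

universe u

open CategoryTheory CategoryTheory.Limits AlgebraicGeometry Opposite

noncomputable section

namespace Groth.L28.AffLef

open Groth.L27

variable {U Y : Scheme.{u}} (j : U ⟶ Y) [IsOpenImmersion j] [QuasiCompact j] [QuasiSeparated j]

/-- Vanishing on the fibres over the missing points of `Cl`. -/
def FibVan (Cl : Set Y) (r : ℕ) (G : EtCoh.Ab U) : Prop :=
  ∀ y ∈ Cl, y ∉ Set.range j.base → ∀ (R : Type u) [CommRing R] [IsLocalRing R] [Algebra (Y.presheaf.stalk y) R]
    [IsLocalHom (algebraMap (Y.presheaf.stalk y) R)] [Hensel.IsStrictHenselization (Y.presheaf.stalk y) R] (c : ℕ),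
    0 < c → r ≤ c → Subsingleton (EtCoh.H (pullback j (Hens2.specOf Y y R))
      ((EtCoh.pull (pullback.fst j (Hens2.specOf Y y R))).obj G) c)

theorem supp_cokernel_push_subset {A B : EtCoh.Ab U} (g : A ⟶ B) [Epi g] :
    EtPBC.supp (cokernel ((EtCoh.push j).map g)) ⊆ (Set.range j.base)ᶜ := by
  rintro y ⟨Ω, _, _, ξ, hξ, hne⟩ hy
  refine hne (CurveCd.isZero_stalk_cokernel _ ξ fun z => ?_)
  have hr : Set.range ξ ⊆ Set.range j := by
    rw [hξ]
    exact Set.singleton_subset_iff.2 hy
  obtain ⟨v, rfl⟩ : ∃ v, v ≫ j = ξ := ⟨IsOpenImmersion.lift j ξ hr, IsOpenImmersion.lift_fac j ξ hr⟩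
  haveI := (ExtZero.isIso_counit_of_mono j).1
  haveI : Epi ((EtCoh.pull j).map ((EtCoh.push j).map g)) := by
    have e := (EtCoh.pullPushAdj j).counit.naturality g
    have e' : (EtCoh.pull j).map ((EtCoh.push j).map g) =
        (EtCoh.pullPushAdj j).counit.app A ≫ g ≫ inv ((EtCoh.pullPushAdj j).counit.app B) := by
      rw [← Category.assoc, IsIso.eq_comp_inv]
      exact e
    rw [e']
    infer_instance
  have hs := (EtSite.epi_iff_stalks ((EtCoh.pull j).map ((EtCoh.push j).map g))).1 inferInstance Ω v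
  let t := EtSite.stalkPullIso j v
  obtain ⟨a, ha⟩ := hs ((t.app _).inv z)
  refine ⟨(t.app _).hom a, ?_⟩
  refine ((ConcreteCategory.congr_hom (t.hom.naturality ((EtCoh.push j).map g)) a).symm.trans ?_)
  refine (congrArg ((t.app _).hom) ha).trans ?_
  exact Iso.inv_hom_id_apply (t.app _) z

variable [CompactSpace U] [QuasiSeparatedSpace U] {ℓ : ℕ} (Cl : Set Y)

/-- The criterion. -/
theorem subsingleton_H_of_fibVan
    (hbad : ∀ K : EtCoh.Ab Y, EtAcyc.IsLTorsion {ℓ} K → EtPBC.supp K ⊆ (Set.range j.base)ᶜ → ∀ a, 0 < a →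
      Subsingleton (EtCoh.H Y K a))
    (hcl : ∀ K : EtCoh.Ab Y, EtAcyc.IsLTorsion {ℓ} K → EtPBC.supp K ∩ Cl ⊆ ∅ → Subsingleton (EtCoh.H Y K 0)) :
    ∀ (n : ℕ) (G : EtCoh.Ab U), EtAcyc.IsLTorsion {ℓ} G →
      (∀ a, n < a → Subsingleton (EtCoh.H Y ((EtCoh.push j).obj G) a)) → FibVan j Cl (n + 1) G →
      Subsingleton (EtCoh.H Y ((EtCoh.push j).obj G) (n + 1)) → Subsingleton (EtCoh.H U G (n + 1)) := by
  haveI := EtSite.preservesFiniteLimits_pull j
  haveI : PreservesFiniteLimits (EtCoh.push j) := Devissage.preservesFiniteLimits_push j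
  intro n
  induction n with
  | zero =>
    intro G hG _ hR hP
    obtain ⟨G₁, v, hv, hG₁, hH₁, hR₁⟩ := CompTransfer.exists_torsion_effacement {ℓ} G hG
    haveI := hv
    let E : ShortComplex (EtCoh.Ab U) := ShortComplex.mk v (cokernel.π v) (cokernel.condition v)
    have hE : E.ShortExact := { exact := ShortComplex.exact_of_g_is_cokernel _ (cokernelIsCokernel v) }
    let ψ := (EtCoh.push j).map E.g
    haveI : Epi E.g := inferInstanceAs (Epi (cokernel.π v))
    have hCt : EtAcyc.IsLTorsion {ℓ} (cokernel ψ) := CompTransfer.isLTorsion_of_epi (cokernel.π ψ)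
      (CompTransfer.isLTorsion_push {ℓ} j (CompTransfer.isLTorsion_of_epi (cokernel.π v) hG₁))
    have hC : Subsingleton (EtCoh.H Y (cokernel ψ) 0) := by
      refine hcl _ hCt ?_
      rintro y ⟨hy, hyCl⟩
      have hyr := supp_cokernel_push_subset j E.g hy
      obtain ⟨R, _, _, _, _, hS⟩ := L05.Henselization.exists_isStrictHenselization (Y.presheaf.stalk y)
      haveI : IsSepClosed (IsLocalRing.ResidueField R) := hS.isSepClosure.sep_closed
      refine absurd ?_ (DimFun.not_isZero_stalk (Hens2.geomPt Y y R) (PBC.geomPt_default Y y R) hy)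
      refine CurveCd.isZero_stalk_cokernel ψ _ fun a => ?_
      obtain ⟨e⟩ := StalkRpush.nonempty_natIso j y R 0
      let g := pullback.fst j (Hens2.specOf Y y R)
      haveI := EtSite.preservesFiniteLimits_pull g
      haveI : (EtCoh.pull g).Additive := (EtCoh.pullPushAdj g).left_adjoint_additive
      haveI : PreservesFiniteColimits (EtCoh.pull g) :=
        have : PreservesColimitsOfSize.{0, 0} (EtCoh.pull g) := (EtCoh.pullPushAdj g).leftAdjoint_preservesColimits
        PreservesColimitsOfSize.preservesFiniteColimits _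
      let T := Functor.isoWhiskerRight (EtCoh.push j).rightDerivedZeroIsoSelf.symm (EtCoh.stalk (Hens2.geomPt Y y R)) ≪≫ e
      obtain ⟨w, hw⟩ := LimCoh.exists_map_of_δH_eq_zero (hE.map_of_exact (EtCoh.pull g)) 0 ((T.app _).hom a)
        (@Subsingleton.elim _ (hR y hyCl hyr R 1 Nat.one_pos le_rfl) _ _)
      refine ⟨(T.app _).inv w, ?_⟩
      refine (ConcreteCategory.congr_hom (T.inv.naturality E.g) w).symm.trans ?_
      refine (congrArg ((T.app _).inv) hw).trans ?_
      exact Iso.hom_inv_id_apply (T.app _) a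
    refine subsingleton_of_forall_eq 0 fun z => ?_
    obtain ⟨x, rfl⟩ := LimCoh.exists_δH hE 0 z (@Subsingleton.elim (EtCoh.H U E.X₂ 1) (hH₁ 0) _ _)
    obtain ⟨x', rfl⟩ := (CompTransfer.bijective_HofPush_zero j E.X₃).2 x
    -- lift to the image
    let E₂ : ShortComplex (EtCoh.Ab Y) := ShortComplex.mk (Abelian.image.ι ψ) (cokernel.π ψ) (kernel.condition _)
    have hE₂ : E₂.ShortExact :=
      { exact := ShortComplex.exact_of_f_is_kernel _ (kernelIsKernel _)
        mono_f := inferInstanceAs (Mono (Abelian.image.ι ψ))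
        epi_g := inferInstanceAs (Epi (cokernel.π ψ)) }
    obtain ⟨y', hy'⟩ := Abelian.Ext.covariant_sequence_exact₂ (EtCoh.const Y ℤ) hE₂ x'
      (@Subsingleton.elim (EtCoh.H Y (cokernel ψ) 0) hC _ _)
    let T : ShortComplex (EtCoh.Ab Y) := ShortComplex.mk ((EtCoh.push j).map E.f) (Abelian.factorThruImage ψ) (by
      rw [← cancel_mono (Abelian.image.ι ψ), Category.assoc, Abelian.image.fac, zero_comp, ← Functor.map_comp, E.zero,
        Functor.map_zero])
    haveI := hE.mono_f
    haveI : Mono T.f := inferInstanceAs (Mono ((EtCoh.push j).map E.f))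
    haveI : Epi T.g := inferInstanceAs (Epi (Abelian.factorThruImage ψ))
    have hT : T.ShortExact :=
      { exact := by
          let T' : ShortComplex (EtCoh.Ab Y) := ShortComplex.mk ((EtCoh.push j).map E.f) ψ
            (by rw [← Functor.map_comp, E.zero, Functor.map_zero])
          have hK : IsLimit (KernelFork.ofι T'.f T'.zero) := KernelFork.mapIsLimit _ hE.fIsKernel (EtCoh.push j)
          refine ShortComplex.exact_of_f_is_kernel _ (KernelFork.IsLimit.ofι' _ T.zero fun {A} a ha =>
            KernelFork.IsLimit.lift' hK a ?_)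
          show a ≫ ψ = 0
          rw [← Abelian.image.fac ψ, ← Category.assoc, ha, zero_comp] }
    obtain ⟨w, hw⟩ := LimCoh.exists_map_of_δH_eq_zero hT 0 y' (@Subsingleton.elim _ hP _ _)
    have hx' : (EtCoh.HF Y 0).map ψ w = x' := by
      rw [← Abelian.image.fac ψ, LimCoh.HF_map_comp]
      exact (congrArg ((EtCoh.HF Y 0).map (Abelian.image.ι ψ)) hw).trans
        ((EtSite.HF_map_apply _ _ _).trans hy')
    rw [← hx', LimCoh.HofPush_map]
    exact (LimCoh.δH_map_g hE 0 _)
  | succ n ih =>
    intro G hG hPG hR hP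
    obtain ⟨G₁, v, hv, hG₁, hH₁, hR₁⟩ := CompTransfer.exists_torsion_effacement {ℓ} G hG
    haveI := hv
    let E : ShortComplex (EtCoh.Ab U) := ShortComplex.mk v (cokernel.π v) (cokernel.condition v)
    have hE : E.ShortExact := { exact := ShortComplex.exact_of_g_is_cokernel _ (cokernelIsCokernel v) }
    haveI : Epi E.g := inferInstanceAs (Epi (cokernel.π v))
    have hG₂ : EtAcyc.IsLTorsion {ℓ} E.X₃ := CompTransfer.isLTorsion_of_epi (cokernel.π v) hG₁
    let ψ := (EtCoh.push j).map E.g
    have hCt : EtAcyc.IsLTorsion {ℓ} (cokernel ψ) :=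
      CompTransfer.isLTorsion_of_epi (cokernel.π ψ) (CompTransfer.isLTorsion_push {ℓ} j hG₂)
    have hpush : ∀ a, n + 1 ≤ a → Subsingleton (EtCoh.H Y ((EtCoh.push j).obj E.X₃) a) := by
      intro a ha
      obtain ⟨i, rfl⟩ : ∃ i, a = i + 1 := ⟨a - 1, by omega⟩
      let T : ShortComplex (EtCoh.Ab Y) := ShortComplex.mk ((EtCoh.push j).map E.f) (Abelian.factorThruImage ψ) (by
        rw [← cancel_mono (Abelian.image.ι ψ), Category.assoc, Abelian.image.fac, zero_comp, ← Functor.map_comp,
          E.zero, Functor.map_zero])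
      haveI := hE.mono_f
      haveI : Mono T.f := inferInstanceAs (Mono ((EtCoh.push j).map E.f))
      haveI : Epi T.g := inferInstanceAs (Epi (Abelian.factorThruImage ψ))
      have hT : T.ShortExact :=
        { exact := by
            let T' : ShortComplex (EtCoh.Ab Y) := ShortComplex.mk ((EtCoh.push j).map E.f) ψ
              (by rw [← Functor.map_comp, E.zero, Functor.map_zero])
            have hK : IsLimit (KernelFork.ofι T'.f T'.zero) := KernelFork.mapIsLimit _ hE.fIsKernel (EtCoh.push j)
            refine ShortComplex.exact_of_f_is_kernel _ (KernelFork.IsLimit.ofι' _ T.zero fun {A} a ha =>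
              KernelFork.IsLimit.lift' hK a ?_)
            show a ≫ ψ = 0
            rw [← Abelian.image.fac ψ, ← Category.assoc, ha, zero_comp] }
      have h₂ : Subsingleton (EtCoh.H Y ((EtCoh.push j).obj E.X₂) (i + 1)) :=
        haveI : Subsingleton (EtCoh.H U E.X₂ (i + 1)) := hH₁ i
        (EtSite.bijective_HofPush j E.X₂ (fun r hr => hR₁ j r hr) (i + 1)).1.subsingleton
      have hI : Subsingleton (EtCoh.H Y T.X₃ (i + 1)) := subsingleton_of_forall_eq 0 fun z => by
        obtain ⟨w, rfl⟩ := LimCoh.exists_map_of_δH_eq_zero hT (i + 1) z (@Subsingleton.elim _ (by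
          rcases (show i + 2 = n + 1 + 1 ∨ n + 1 < i + 1 + 1 by omega) with h | h
          · exact h ▸ hP
          · exact hPG (i + 1 + 1) h) _ _)
        rw [@Subsingleton.elim (EtCoh.H Y T.X₂ (i + 1)) h₂ w 0]
        exact map_zero ((EtCoh.HF Y (i + 1)).map T.g).hom
      let E₂ : ShortComplex (EtCoh.Ab Y) := ShortComplex.mk (Abelian.image.ι ψ) (cokernel.π ψ) (kernel.condition _)
      have hE₂ : E₂.ShortExact :=
        { exact := ShortComplex.exact_of_f_is_kernel _ (kernelIsKernel _)
          mono_f := inferInstanceAs (Mono (Abelian.image.ι ψ))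
          epi_g := inferInstanceAs (Epi (cokernel.π ψ)) }
      exact Devissage.middle hE₂ (i + 1) hI
        (hbad _ hCt (supp_cokernel_push_subset j E.g) (i + 1) (Nat.succ_pos _))
    have hR₂ : FibVan j Cl (n + 1) E.X₃ := by
      intro y hy hyr R _ _ _ _ hS c hc hnc
      haveI : IsSepClosed (IsLocalRing.ResidueField R) := hS.isSepClosure.sep_closed
      obtain ⟨e⟩ := StalkRpush.nonempty_natIso j y R c
      have hf₁ : Subsingleton (EtCoh.H (pullback j (Hens2.specOf Y y R))
          ((EtCoh.pull (pullback.fst j (Hens2.specOf Y y R))).obj G₁) c) :=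
        AddCommGrpCat.subsingleton_of_isZero
          (IsZero.of_iso ((EtCoh.stalk (Hens2.geomPt Y y R)).map_isZero (hR₁ j c hc)) (e.app G₁).symm)
      let g := pullback.fst j (Hens2.specOf Y y R)
      haveI := EtSite.preservesFiniteLimits_pull g
      haveI : (EtCoh.pull g).Additive := (EtCoh.pullPushAdj g).left_adjoint_additive
      haveI : PreservesFiniteColimits (EtCoh.pull g) :=
        have : PreservesColimitsOfSize.{0, 0} (EtCoh.pull g) := (EtCoh.pullPushAdj g).leftAdjoint_preservesColimits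
        PreservesColimitsOfSize.preservesFiniteColimits _
      refine subsingleton_of_forall_eq 0 fun z => ?_
      obtain ⟨w, rfl⟩ := LimCoh.exists_map_of_δH_eq_zero (hE.map_of_exact (EtCoh.pull g)) c z
        (@Subsingleton.elim _ (hR y hy hyr R (c + 1) (Nat.succ_pos _) (by omega)) _ _)
      rw [@Subsingleton.elim (EtCoh.H (pullback j (Hens2.specOf Y y R)) (E.map (EtCoh.pull g)).X₂ c) hf₁ w 0]
      exact map_zero ((EtCoh.HF (pullback j (Hens2.specOf Y y R)) c).map (E.map (EtCoh.pull g)).g).hom
    have h₃ := ih E.X₃ hG₂ (fun a ha => hpush a (by omega)) hR₂ (hpush (n + 1) le_rfl)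
    refine subsingleton_of_forall_eq 0 fun z => ?_
    obtain ⟨x, rfl⟩ := LimCoh.exists_δH hE (n + 1) z (@Subsingleton.elim (EtCoh.H U E.X₂ (n + 1 + 1)) (hH₁ (n + 1)) _ _)
    rw [@Subsingleton.elim (EtCoh.H U E.X₃ (n + 1)) h₃ x 0, map_zero]

end Groth.L28.AffLef
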