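import Groth.Agent.L28.FieldTower.Base
import Groth.Agent.L27.StalkRpush.Main
import Groth.Agent.L27.LimCoh.PushSys
import Groth.Agent.L27.LimCoh.Stage

/-! # Cohomological dimension of a strictly local base change -/

set_option autoImplicit false
set_option linter.style.haveILetI false
set_option linter.unusedSectionVars false
set_option backward.isDefEq.respectTransparency.types false

universe u

open CategoryTheory CategoryTheory.Limits AlgebraicGeometry Opposite

noncomputable section

namespace Groth.L28.AffLef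

open Groth.L27 Groth.L27.StalkRpush Groth.L05.Henselization

variable {X S : Scheme.{u}} (f : X ⟶ S) [QuasiCompact f] [QuasiSeparated f] (B : Type u) [CommRing B]
  (j : Spec (CommRingCat.of B) ⟶ S) [IsOpenImmersion j] (K : Type u) [Field K] [IsSepClosed K] [Algebra B K]
  (R : Type u) [CommRing R] [Algebra B R] (e : Col B K ≃ₐ[B] R)

include e in
/-- A bound for all the stages bounds the limit. -/
theorem cdLE_of_stages {ℓ d : ℕ} (h : ∀ i, FieldTower.CdLE ℓ ((StalkRpush.D f B j K).obj i) d) :
    FieldTower.CdLE ℓ (Xbar f B j R) d := by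
  intro F hF q hq
  let c := StalkRpush.cone f B j K R e
  let D := StalkRpush.D f B j K
  haveI : ∀ i, PreservesFiniteLimits (EtCoh.pull (LimCoh.prj c i)) := fun i =>
    EtSite.preservesFiniteLimits_pull _
  haveI : ∀ {i k : Idx B K} (g : k ⟶ i), PreservesFiniteLimits (EtCoh.pull (D.map g)) := fun g =>
    EtSite.preservesFiniteLimits_pull _
  haveI hA : ∀ (i k : Idx B K) (g : i ⟶ k), IsAffineHom (D.map g) := fun i k g => isAffineHom_D f B j K g
  haveI : ∀ i, IsAffineHom (c.π.app i) := fun i => LimCoh.isAffineHom_π (isLimitCone f B j K R e) i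
  obtain ⟨h1, -⟩ := LimCoh.commutes_isLim (isLimitCone f B j K R e) (LimCoh.pushCocn c F)
    (LimCoh.isLim_pushCocn c F) q
  refine subsingleton_of_forall_eq 0 fun ξ => ?_
  obtain ⟨i, η, rfl⟩ := h1 ξ
  rw [@Subsingleton.elim _ (h i ((EtCoh.push (LimCoh.prj c i)).obj F)
    (CompTransfer.isLTorsion_push {ℓ} (LimCoh.prj c i) hF) q hq) η 0]
  exact (LimCoh.ΦL (LimCoh.pushCocn c F) i q).map_zero

end Groth.L28.AffLef
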