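import Groth.Agent.L28.AffLef.Local
import Groth.Agent.L28.AffLef.Chart
import Groth.Agent.L28.AffLef.Leray
import Groth.Agent.L27.PBC.Henselian
import Groth.Agent.L27.LimBC.LAFibre
import Groth.Agent.L28.CurveCd.Main
import Groth.Agent.S0204
import Groth.Agent.S3447

/-! # Cohomology of the affine line over a strictly local ring -/

set_option autoImplicit false
set_option linter.style.haveILetI false
set_option linter.unusedSectionVars false
set_option backward.isDefEq.respectTransparency.types false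

universe u

open CategoryTheory CategoryTheory.Limits AlgebraicGeometry Opposite IsLocalRing
open Groth.L16.ProjSpace

noncomputable section

namespace Groth.L28.AffLef

open Groth.L27

/-- Torsion cohomology vanishes in one degree. -/
def VanAt (ℓ : ℕ) (Z : Scheme.{u}) (b : ℕ) : Prop :=
  ∀ G : EtCoh.Ab Z, EtAcyc.IsLTorsion {ℓ} G → Subsingleton (EtCoh.H Z G b)

theorem VanAt.of_integral {ℓ b : ℕ} {Z Z' : Scheme.{u}} (π : Z ⟶ Z') [IsIntegralHom π] (h : VanAt ℓ Z' b) :
    VanAt ℓ Z b := by
  intro G hG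
  haveI := EtSite.preservesFiniteLimits_pull π
  haveI := h _ (CompTransfer.isLTorsion_push {ℓ} π hG)
  exact (EtSite.bijective_HofPush π G
    (fun s hs => EtSite.isZero_Rpush_of_propB π (EtSite.propB_of_isIntegralHom π) _ s hs) b).2.subsingleton

variable (C : Type u) [CommRing C]

/-- The structure map of the affine line. -/
abbrev p₀ : AL C ⟶ Spec (CommRingCat.of C) := j₀ C ≫ CohB1.ProjSpace.toSpec 1 C

theorem dim_AL_fibre (T : Type u) [Field T] (a : Spec (CommRingCat.of T) ⟶ Spec (CommRingCat.of C)) :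
    topologicalKrullDim ↥(pullback (p₀ C) a) ≤ 1 :=
  let e : pullback (p₀ C) a ≅ pullback (Spec.map (CommRingCat.ofHom
      (MvPolynomial.C : C →+* MvPolynomial (ChartVar 1 (0 : Fin 2)) C))) a :=
    pullback.congrHom (chart_toSpec 1 C 0) rfl
  e.hom.homeomorph.isHomeomorph.topologicalKrullDim_eq.trans_le (dim_chart_fibre C T 0 a)

instance isAffineHom_p₀ : IsAffineHom (p₀ C) := by
  rw [show p₀ C = Spec.map (CommRingCat.ofHom (MvPolynomial.C : C →+* MvPolynomial (ChartVar 1 (0 : Fin 2)) C))
    from chart_toSpec 1 C 0]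
  infer_instance

instance lft_p₀ : LocallyOfFiniteType (p₀ C) := inferInstance

/-- The affine line over a separably closed field. -/
theorem cdLE_line (ℓ : ℕ) (T : Type u) [Field T] [IsSepClosed T]
    (a : Spec (CommRingCat.of T) ⟶ Spec (CommRingCat.of C)) : FieldTower.CdLE ℓ (pullback (p₀ C) a) 1 := by
  have hT : FieldTower.CdLE ℓ (Spec (CommRingCat.of T)) 0 := fun G _ r hr => by
    obtain ⟨i, rfl⟩ : ∃ i, r = i + 1 := ⟨r - 1, by omega⟩
    exact CurveCd.subsingleton_H_sepClosed _ G i
  haveI : IsAffineHom (pullback.snd (p₀ C) a) :=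
    MorphismProperty.pullback_snd (P := @IsAffineHom) _ _ inferInstance
  haveI : LocallyOfFiniteType (pullback.snd (p₀ C) a) :=
    MorphismProperty.pullback_snd (P := @LocallyOfFiniteType) _ _ inferInstance
  refine (zero_add 1) ▸ cdLE_of_algClosed T hT (pullback (p₀ C) a) (pullback.snd (p₀ C) a) fun k _ _ _ _ => ?_
  let r := Spec.map (CommRingCat.ofHom (algebraMap T k))
  let X := pullback (pullback.snd (p₀ C) a) r
  haveI : IsAffineHom (pullback.snd (pullback.snd (p₀ C) a) r) :=
    MorphismProperty.pullback_snd (P := @IsAffineHom) _ _ inferInstance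
  haveI : IsAffine X := isAffine_of_isAffineHom (pullback.snd (pullback.snd (p₀ C) a) r)
  haveI : LocallyOfFiniteType (pullback.snd (pullback.snd (p₀ C) a) r) :=
    MorphismProperty.pullback_snd (P := @LocallyOfFiniteType) _ _ inferInstance
  exact cdLE_of_cohDimLE (Groth.Agent.S0204.result k X (pullback.snd (pullback.snd (p₀ C) a) r)
    ((pullbackLeftPullbackSndIso (p₀ C) a r).hom.homeomorph.isHomeomorph.topologicalKrullDim_eq.trans_le
      (dim_AL_fibre C k (r ≫ a)))) ℓ

/-- Each fibre misses the affine line in one point. -/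
theorem subsingleton_compl (T : Type u) [Field T] (a : Spec (CommRingCat.of T) ⟶ Spec (CommRingCat.of C)) :
    {z | pullback.fst (CohB1.ProjSpace.toSpec 1 C) a z ∉ (j₀ C).opensRange}.Subsingleton := by
  intro z hz z' hz'
  let q := pullback.fst (CohB1.ProjSpace.toSpec 1 C) a
  obtain ⟨p, hp⟩ := exists_zeroSection C hz
  obtain ⟨p', hp'⟩ := exists_zeroSection C hz'
  obtain ⟨w, -, hw⟩ := Scheme.Pullback.exists_preimage_pullback (f := zeroSection 1 C 1) (g := q) p z hp
  obtain ⟨w', -, hw'⟩ := Scheme.Pullback.exists_preimage_pullback (f := zeroSection 1 C 1) (g := q) p' z' hp'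
  let e : pullback (zeroSection 1 C 1) q ≅ pullback (𝟙 (Spec (CommRingCat.of C))) a :=
    pullbackRightPullbackFstIso (CohB1.ProjSpace.toSpec 1 C) a (zeroSection 1 C 1) ≪≫
      pullback.congrHom (zeroSection_toSpec 1 C 1) rfl
  haveI : IsIso (pullback.snd (𝟙 (Spec (CommRingCat.of C))) a) := inferInstance
  have : w = w' := (e.hom ≫ pullback.snd _ a).isOpenEmbedding.injective
    (Subsingleton.elim (α := PrimeSpectrum T) _ _)
  rw [← hw, ← hw', this]

variable {ℓ : ℕ} (hℓ : ℓ.Prime) (k : Type u) [Field k] [Algebra k C] [Algebra.FiniteType k C]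

include hℓ k in
/-- The affine line over a strictly local ring. -/
theorem vanAt_line (y : Spec (CommRingCat.of C)) (R : Type u) [CommRing R] [IsLocalRing R]
    [Algebra ((Spec (CommRingCat.of C)).presheaf.stalk y) R]
    [IsLocalHom (algebraMap ((Spec (CommRingCat.of C)).presheaf.stalk y) R)]
    [hS : Hensel.IsStrictHenselization ((Spec (CommRingCat.of C)).presheaf.stalk y) R]
    (r : ℕ) (hr : ringKrullDim R = r) (ih : AffBound.{u} ℓ r) (b : ℕ) (hb : r + 2 ≤ b) :
    VanAt ℓ (pullback (p₀ C) (Hens2.specOf (Spec (CommRingCat.of C)) y R)) b := by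
  let η := Hens2.specOf (Spec (CommRingCat.of C)) y R
  haveI : IsSepClosed (ResidueField R) := hS.isSepClosure.sep_closed
  haveI := hS.henselian
  haveI : IsNoetherianRing C := Algebra.FiniteType.isNoetherianRing k C
  haveI : IsClosedImmersion (PBC.clA R) := IsClosedImmersion.spec_of_surjective _ IsLocalRing.residue_surjective
  rcases Nat.eq_zero_or_pos r with rfl | hr0
  · intro G hG
    let i := pullback.fst (pullback.snd (p₀ C) η) (PBC.clA R)
    haveI : IsClosedImmersion i := MorphismProperty.pullback_fst (P := @IsClosedImmersion) _ _ inferInstance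
    have hsurj : Function.Surjective i.base := fun z => by
      haveI : Ring.KrullDimLE 0 R := Ring.krullDimLE_iff.2 (by rw [hr, Nat.cast_zero])
      have hz : (PBC.clA R).base default = pullback.snd (p₀ C) η z :=
        @Subsingleton.elim (PrimeSpectrum R) ⟨fun a b => PrimeSpectrum.ext
          (((IsLocalRing.eq_maximalIdeal (Ideal.IsPrime.isMaximal' a.2)).trans
            (IsLocalRing.eq_maximalIdeal (Ideal.IsPrime.isMaximal' b.2)).symm))⟩ _ _
      obtain ⟨w, hw, -⟩ := Scheme.Pullback.exists_preimage_pullback (f := pullback.snd (p₀ C) η) (g := PBC.clA R)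
        z default hz.symm
      exact ⟨w, hw⟩
    let e := pullbackLeftPullbackSndIso (p₀ C) η (PBC.clA R)
    exact Devissage.of_surjective_closed i hsurj G b
      (((cdLE_line C ℓ (ResidueField R) (PBC.clA R ≫ η)).of_integral e.hom) _
        (CompTransfer.isLTorsion_pull {ℓ} i hG) b (by omega))
  let P := PL C
  let q := pullback.fst (CohB1.ProjSpace.toSpec 1 C) η
  let pR := pullback.snd (CohB1.ProjSpace.toSpec 1 C) η
  haveI : IsProper pR := MorphismProperty.pullback_snd (P := @IsProper) _ _ inferInstance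
  haveI : WeaklyEtale η := Acyclic0.weaklyEtale_fromStrict y R
  haveI : WeaklyEtale q := MorphismProperty.pullback_fst (P := @WeaklyEtale) _ _ inferInstance
  let jR := pullback.snd (j₀ C) q
  haveI : IsOpenImmersion jR := MorphismProperty.pullback_snd (P := @IsOpenImmersion) _ _ inferInstance
  haveI : IsAffineHom (pullback.snd (p₀ C) η) := MorphismProperty.pullback_snd (P := @IsAffineHom) _ _ inferInstance
  let eU : pullback (j₀ C) q ≅ pullback (p₀ C) η :=
    pullbackRightPullbackFstIso (CohB1.ProjSpace.toSpec 1 C) η (j₀ C)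
  refine VanAt.of_integral eU.inv (fun G hG => ?_)
  haveI : CompactSpace ↥(pullback (p₀ C) η) := QuasiCompact.compactSpace_of_compactSpace (pullback.snd (p₀ C) η)
  haveI : QuasiSeparatedSpace ↥(pullback (p₀ C) η) := quasiSeparatedSpace_of_quasiSeparated (pullback.snd (p₀ C) η)
  haveI : CompactSpace ↥(pullback (j₀ C) q) := QuasiCompact.compactSpace_of_compactSpace eU.hom
  haveI : QuasiSeparatedSpace ↥(pullback (j₀ C) q) := quasiSeparatedSpace_of_quasiSeparated eU.hom
  haveI : CompactSpace ↥(pullback (CohB1.ProjSpace.toSpec 1 C) η) := QuasiCompact.compactSpace_of_compactSpace pR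
  haveI : QuasiSeparatedSpace ↥(pullback (CohB1.ProjSpace.toSpec 1 C) η) := quasiSeparatedSpace_of_quasiSeparated pR
  haveI : QuasiCompact jR := quasiCompact_of_compactSpace jR
  let i₀ := pullback.fst pR (PBC.clA R)
  haveI := EtSite.preservesFiniteLimits_pull i₀
  let s₀ := pullback.snd pR (PBC.clA R)
  haveI : IsProper s₀ := MorphismProperty.pullback_snd (P := @IsProper) _ _ inferInstance
  let e₀ : pullback pR (PBC.clA R) ≅ pullback (CohB1.ProjSpace.toSpec 1 C) (PBC.clA R ≫ η) :=
    pullbackLeftPullbackSndIso (CohB1.ProjSpace.toSpec 1 C) η (PBC.clA R)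
  have he₀ : e₀.hom ≫ pullback.fst _ _ = i₀ ≫ q := pullbackLeftPullbackSndIso_hom_fst _ _ _
  have hdim₀ : topologicalKrullDim ↥(pullback pR (PBC.clA R)) ≤ 1 :=
    e₀.hom.homeomorph.isHomeomorph.topologicalKrullDim_eq.trans_le (dim_fibre C (ResidueField R) (PBC.clA R ≫ η))
  have hpbc : ∀ (K : EtCoh.Ab (pullback (CohB1.ProjSpace.toSpec 1 C) η)), EtAcyc.IsLTorsion {ℓ} K → ∀ a,
      Subsingleton (EtCoh.H (pullback pR (PBC.clA R)) ((EtCoh.pull i₀).obj K) a) →
        Subsingleton (EtCoh.H (pullback (CohB1.ProjSpace.toSpec 1 C) η) K a) := fun K hK a h =>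
    haveI := h
    (PBC.bijective_closedFibre pR a K (AffineEfface.isTorsion_of_isLTorsion hK)).1.subsingleton
  obtain ⟨n, rfl⟩ : ∃ n, b = n + 1 := ⟨b - 1, by omega⟩
  have hCl : FieldTower.CdLE ℓ (pullback pR (PBC.clA R)) 2 := by
    have hT : FieldTower.CdLE ℓ (Spec (CommRingCat.of (ResidueField R))) 0 := fun F _ r hr => by
      obtain ⟨i, rfl⟩ : ∃ i, r = i + 1 := ⟨r - 1, by omega⟩
      exact CurveCd.subsingleton_H_sepClosed _ F i
    refine (zero_add 2) ▸ cdLE_of_algClosed (ResidueField R) hT _ s₀ fun kk _ _ _ _ F hF r hr => ?_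
    obtain ⟨i, rfl⟩ : ∃ i, r = i + 3 := ⟨r - 3, by omega⟩
    let r₀ := Spec.map (CommRingCat.ofHom (algebraMap (ResidueField R) kk))
    haveI : IsProper (pullback.snd s₀ r₀) := MorphismProperty.pullback_snd (P := @IsProper) _ _ inferInstance
    let e₁ : pullback s₀ r₀ ≅ pullback (CohB1.ProjSpace.toSpec 1 C) ((r₀ ≫ PBC.clA R) ≫ η) :=
      pullbackLeftPullbackSndIso pR (PBC.clA R) r₀ ≪≫
        pullbackLeftPullbackSndIso (CohB1.ProjSpace.toSpec 1 C) η (r₀ ≫ PBC.clA R)
    exact CurveCd.subsingleton_H (pullback.snd s₀ r₀)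
      (e₁.hom.homeomorph.isHomeomorph.topologicalKrullDim_eq.trans_le (dim_fibre C kk _)) F
      (AffineEfface.isTorsion_of_isLTorsion hF) i
  have hcurve : ∀ (a : ℕ), 3 ≤ a → ∀ G : EtCoh.Ab (pullback (j₀ C) q), EtAcyc.IsLTorsion {ℓ} G →
      Subsingleton (EtCoh.H (pullback (CohB1.ProjSpace.toSpec 1 C) η) ((EtCoh.push jR).obj G) a) := by
    intro a ha G hG
    obtain ⟨a, rfl⟩ : ∃ i, a = i + 3 := ⟨a - 3, by omega⟩
    have hpG := CompTransfer.isLTorsion_push {ℓ} jR hG
    exact hpbc _ hpG _ (hCl _ (CompTransfer.isLTorsion_pull {ℓ} i₀ hpG) (a + 3) (by omega))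
  refine subsingleton_H_of_fibVan jR (pR.base ⁻¹' {closedPoint R}) ?_ ?_ n G hG
    (fun a ha => hcurve a (by omega) G hG) ?_ (hcurve (n + 1) (by omega) G hG)
  · intro K hK hs a ha
    refine hpbc K hK a ?_
    haveI : IsLocallyNoetherian (pullback pR (PBC.clA R)) := LocallyOfFiniteType.isLocallyNoetherian s₀
    haveI : CompactSpace ↥(pullback pR (PBC.clA R)) := QuasiCompact.compactSpace_of_compactSpace s₀
    haveI : AlgebraicGeometry.IsNoetherian (pullback pR (PBC.clA R)) := {}
    let Bad : Set ↥(pullback pR (PBC.clA R)) := {z | i₀ z ∉ jR.opensRange}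
    have hBadS : Bad.Subsingleton := by
      intro z hz z' hz'
      have key : ∀ z ∈ Bad, pullback.fst (CohB1.ProjSpace.toSpec 1 C) (PBC.clA R ≫ η) (e₀.hom z) ∉ (j₀ C).opensRange := by
        intro z hz hm
        refine hz ?_
        show i₀ z ∈ Set.range jR.base
        rw [Scheme.Pullback.range_snd]
        show q (i₀ z) ∈ (j₀ C).opensRange
        rwa [← Scheme.Hom.comp_apply, ← he₀, Scheme.Hom.comp_apply]
      exact e₀.hom.homeomorph.injective (subsingleton_compl C (ResidueField R) (PBC.clA R ≫ η) (key z hz) (key z' hz'))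
    refine subsingleton_H_supp Bad (fun u v huv hu hv => hu (huv.map i₀.continuous |>.mem_open jR.opensRange.2 hv))
      _ (CompTransfer.isLTorsion_pull {ℓ} i₀ hK) (m := 0) (fun z hz => ?_) (fun Z ι _ hZ => ?_) a ha
    · obtain ⟨Ω, _, _, ξ, hξ, hne⟩ := hz
      refine hs ⟨Ω, inferInstance, inferInstance, ξ ≫ i₀, Spz.range_eq_singleton _ ((Scheme.Hom.comp_apply _ _ _).trans
        (congrArg i₀ (show ξ.base default = z from hξ.subset ⟨_, rfl⟩))), fun h0 => hne ?_⟩
      exact IsZero.of_iso h0 ((EtSite.stalkPullIso i₀ ξ).app _)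
    · haveI : Subsingleton ↥Z := ⟨fun z z' => ι.isClosedEmbedding.injective (hBadS (hZ ⟨z, rfl⟩) (hZ ⟨z', rfl⟩))⟩
      haveI : LocallyOfFiniteType (ι ≫ s₀) := inferInstance
      refine DimFun.cdLE_discrete Z (fun z => ?_) fun z F _ r hr => ?_
      · rw [show ({z} : Set ↥Z) = Set.univ from Set.eq_univ_of_forall fun w => Subsingleton.elim w z]
        exact isClosed_univ
      · haveI : IsSepClosed (Z.residueField z) := CurveCd.isSepClosed_residueField (ι ≫ s₀) z (by
          rw [show ({z} : Set ↥Z) = Set.univ from Set.eq_univ_of_forall fun w => Subsingleton.elim w z]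
          exact isClosed_univ)
        obtain ⟨i, rfl⟩ : ∃ i, r = i + 1 := ⟨r - 1, by omega⟩
        exact @CurveCd.subsingleton_H_sepClosed (Z.residueField z) _ ‹IsSepClosed (Z.residueField z)› F i
  · intro K hK hs
    refine hpbc K hK 0 (Devissage.of_isZero (DimFun.isZero_of_supp fun z hz => ?_) 0)
    obtain ⟨Ω, _, _, ξ, hξ, hne⟩ := hz
    have hz' : ξ.base default = z := hξ.subset ⟨_, rfl⟩
    refine hs ⟨⟨Ω, inferInstance, inferInstance, ξ ≫ i₀, Spz.range_eq_singleton _ rfl, fun h0 => hne ?_⟩, ?_⟩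
    · exact IsZero.of_iso h0 ((EtSite.stalkPullIso i₀ ξ).app _)
    · show pR ((ξ ≫ i₀).base default) = closedPoint R
      rw [Scheme.Hom.comp_apply, ← Scheme.Hom.comp_apply i₀ pR, pullback.condition, Scheme.Hom.comp_apply]
      exact IsLocalRing.PrimeSpectrum.comap_residue _ _
  · intro w hwCl hw S _ _ _ _ hSw c hc hnc
    haveI := hSw.henselian
    haveI : IsSepClosed (ResidueField S) := hSw.isSepClosure.sep_closed
    let sw := Hens2.specOf _ w S
    haveI : WeaklyEtale sw := Acyclic0.weaklyEtale_fromStrict w S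
    haveI : WeaklyEtale (sw ≫ q) := MorphismProperty.comp_mem @WeaklyEtale sw q ‹_› ‹_›
    let x : P := (sw ≫ q) (closedPoint S)
    letI : Algebra (P.presheaf.stalk x) S := (Scheme.stalkClosedPointTo (sw ≫ q)).hom.toAlgebra
    obtain ⟨hl, hSx⟩ := LimBC.isStrictHenselization_closedPointTo S (sw ≫ q)
    haveI := hl
    haveI := hSx
    have hsw : Hens2.specOf P x S = sw ≫ q := Scheme.Spec_stalkClosedPointTo_fromSpecStalk _
    have hsc : sw (closedPoint S) = w := LimBC.specOf_closedPoint w S
    have hxw : x = q w := (Scheme.Hom.comp_apply _ _ _).trans (congrArg q hsc)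
    have hxr : x ∉ (j₀ C).opensRange := fun hm => hw (by
      rw [Scheme.Pullback.range_snd]
      exact (hxw ▸ hm : q w ∈ (j₀ C).opensRange))
    obtain ⟨f, hf, hrange⟩ := exists_coordinate C hxr S
    have hxy : CohB1.ProjSpace.toSpec 1 C x = y := by
      rw [hxw, ← Scheme.Hom.comp_apply, pullback.condition, Scheme.Hom.comp_apply,
        show pR w = closedPoint R from hwCl]
      exact LimBC.specOf_closedPoint y R
    have hdimS : ringKrullDim S ≤ (r + 1 : ℕ) := by
      rw [L05.Henselization.ringKrullDim_strict (P.presheaf.stalk x) S]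
      refine (Groth.Agent.S3447.result (CohB1.ProjSpace.toSpec 1 C) x).trans ?_
      rw [show ((r + 1 : ℕ) : WithBot ℕ∞) = (r : WithBot ℕ∞) + 1 from Nat.cast_succ r]
      refine add_le_add ?_ ((Groth.L15.CohFlat.ringKrullDim_stalk_le _).trans
        (dim_fibre C ((Spec (CommRingCat.of C)).residueField (CohB1.ProjSpace.toSpec 1 C x))
          ((Spec (CommRingCat.of C)).fromSpecResidueField (CohB1.ProjSpace.toSpec 1 C x))))
      rw [hxy, ← L05.Henselization.ringKrullDim_strict ((Spec (CommRingCat.of C)).presheaf.stalk y) R, hr]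
    haveI : LocallyOfFiniteType (Spec.map (CommRingCat.ofHom (algebraMap k C))) := by
      rw [HasRingHomProperty.Spec_iff (P := @LocallyOfFiniteType)]
      exact RingHom.finiteType_algebraMap.mpr inferInstance
    haveI : LocallyOfFiniteType (CohB1.ProjSpace.toSpec 1 C ≫ Spec.map (CommRingCat.ofHom (algebraMap k C))) :=
      MorphismProperty.comp_mem @LocallyOfFiniteType _ _ inferInstance inferInstance
    have hcd := cdLE_away hℓ ih k P
      (CohB1.ProjSpace.toSpec 1 C ≫ Spec.map (CommRingCat.ofHom (algebraMap k C))) x S hdimS f hf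
    let v := Spec.map (CommRingCat.ofHom (algebraMap S (Localization.Away f)))
    haveI : IsOpenImmersion v := IsOpenImmersion.of_isLocalization f
    let e₁ : pullback jR sw ≅ pullback (j₀ C) (Hens2.specOf P x S) :=
      pullbackLeftPullbackSndIso (j₀ C) q sw ≪≫ pullback.congrHom rfl hsw.symm
    let e₂ : pullback (j₀ C) (Hens2.specOf P x S) ≅ Spec (CommRingCat.of (Localization.Away f)) :=
      IsOpenImmersion.isoOfRangeEq (pullback.snd (j₀ C) (Hens2.specOf P x S)) v
        (hrange.trans (PrimeSpectrum.localization_away_comap_range (Localization.Away f) f).symm)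
    exact (hcd.of_integral (e₁ ≪≫ e₂).hom) _
      (CompTransfer.isLTorsion_pull {ℓ} (pullback.fst jR (Hens2.specOf _ w S)) hG) c (by omega)

end Groth.L28.AffLef
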