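import Groth.Agent.L22.AffineDim
import Mathlib.RingTheory.Ideal.Height
import Mathlib.RingTheory.Spectrum.Prime.Topology

/-! # Shrinking around a closed point -/

set_option autoImplicit false
set_option linter.style.haveILetI false
set_option linter.unusedSectionVars false

universe u

noncomputable section

namespace Groth.L28.AffLef

theorem height_quot_le {B : Type u} [CommRing B] (P q : Ideal B) [q.IsPrime] (m : Ideal (B ⧸ P)) [m.IsPrime]
    (hm : m.comap (Ideal.Quotient.mk P) = q) : m.height ≤ q.height := by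
  have hs : StrictMono (PrimeSpectrum.comap (Ideal.Quotient.mk P)) := fun a b hab =>
    lt_of_le_of_ne (Ideal.comap_mono hab.le)
      fun e => hab.ne (PrimeSpectrum.comap_injective_of_surjective _ Ideal.Quotient.mk_surjective e)
  refine ((PrimeSpectrum.height_eq_orderHeight ⟨m, inferInstance⟩).trans_le
    (Order.height_le_height_apply_of_strictMono _ hs _)).trans (le_of_eq ?_)
  rw [show PrimeSpectrum.comap (Ideal.Quotient.mk P) ⟨m, inferInstance⟩ = ⟨q, inferInstance⟩ from PrimeSpectrum.ext hm]
  exact (PrimeSpectrum.height_eq_orderHeight (⟨q, inferInstance⟩ : PrimeSpectrum B)).symm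

/-- Near a maximal ideal the dimension is its height. -/
theorem exists_away_dim (k : Type u) [Field k] (B : Type u) [CommRing B] [Algebra k B] [Algebra.FiniteType k B]
    (q : Ideal B) [q.IsMaximal] :
    ∃ g, g ∉ q ∧ ringKrullDim (Localization.Away g) ≤ (q.height : WithBot ℕ∞) := by
  classical
  haveI : IsNoetherianRing B := Algebra.FiniteType.isNoetherianRing k B
  have hfin := minimalPrimes.finite_of_isNoetherianRing B
  let T := hfin.toFinset.filter fun P => ¬ P ≤ q
  have hex : ∀ P ∈ T, ∃ a, a ∈ P ∧ a ∉ q := fun P hP => Set.not_subset.1 (Finset.mem_filter.1 hP).2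
  choose a ha ha' using hex
  refine ⟨∏ P ∈ T.attach, a P.1 P.2, fun h => ?_, ?_⟩
  · obtain ⟨P, -, hP⟩ := (Ideal.IsPrime.prod_mem_iff (p := q)).1 h
    exact ha' P.1 P.2 hP
  refine iSup_le fun p => ?_
  let g := ∏ P ∈ T.attach, a P.1 P.2
  let c : PrimeSpectrum (Localization.Away g) → PrimeSpectrum B := PrimeSpectrum.comap (algebraMap B _)
  have hc : StrictMono c := fun x y hxy => lt_of_le_of_ne (Ideal.comap_mono hxy.le)
    fun e => hxy.ne (PrimeSpectrum.localization_comap_injective (Localization.Away g) (Submonoid.powers g) e)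
  obtain ⟨P, hP, hPle⟩ := Ideal.exists_minimalPrimes_le (I := (⊥ : Ideal B)) (J := (c p.head).asIdeal) bot_le
  haveI := hP.1.1
  have hPq : P ≤ q := by
    by_contra hn
    have hPT : P ∈ T := Finset.mem_filter.2 ⟨hfin.mem_toFinset.2 hP, hn⟩
    have hg : g ∈ (c p.head).asIdeal := by
      refine hPle ?_
      refine (Ideal.IsPrime.prod_mem_iff (p := P)).2 ⟨⟨P, hPT⟩, Finset.mem_attach _ _, ha P hPT⟩
    exact p.head.2.ne_top (Ideal.eq_top_of_isUnit_mem _ hg
      (IsLocalization.Away.algebraMap_isUnit g))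
  let m : Ideal (B ⧸ P) := q.map (Ideal.Quotient.mk P)
  have hm : m.comap (Ideal.Quotient.mk P) = q := by
    rw [Ideal.comap_map_of_surjective _ Ideal.Quotient.mk_surjective, ← RingHom.ker_eq_comap_bot, Ideal.mk_ker,
      sup_eq_left.2 hPq]
  haveI : m.IsMaximal := (Ideal.map_eq_top_or_isMaximal_of_surjective _ Ideal.Quotient.mk_surjective
    inferInstance).resolve_left fun ht => (inferInstance : q.IsMaximal).ne_top (by
      rw [← hm, show m = ⊤ from ht]; exact Ideal.comap_top)
  haveI : IsDomain (B ⧸ P) := Ideal.Quotient.isDomain P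
  let d : Fin (p.length + 1) → PrimeSpectrum (B ⧸ P) := fun i =>
    ⟨(c (p i)).asIdeal.map (Ideal.Quotient.mk P), Ideal.map_isPrime_of_surjective Ideal.Quotient.mk_surjective
      (by rw [Ideal.mk_ker]; exact hPle.trans (hc.monotone (p.monotone (Fin.zero_le i))))⟩
  have hd : StrictMono d := fun i j hij => by
    have hsup : ∀ i, ((c (p i)).asIdeal.map (Ideal.Quotient.mk P)).comap (Ideal.Quotient.mk P) = (c (p i)).asIdeal :=
      fun i => by
        rw [Ideal.comap_map_of_surjective _ Ideal.Quotient.mk_surjective, ← RingHom.ker_eq_comap_bot, Ideal.mk_ker,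
          sup_eq_left.2 (hPle.trans (hc.monotone (p.monotone (Fin.zero_le i))))]
    refine lt_of_le_of_ne (Ideal.map_mono (hc.monotone (p.monotone hij.le))) fun e => ?_
    refine (hc (p.strictMono hij)).ne (PrimeSpectrum.ext ?_)
    exact (hsup i).symm.trans ((congrArg (fun z : PrimeSpectrum (B ⧸ P) => z.asIdeal.comap (Ideal.Quotient.mk P)) e).trans (hsup j))
  refine (Order.LTSeries.length_le_krullDim (LTSeries.mk p.length d hd)).trans ?_
  show ringKrullDim (B ⧸ P) ≤ _
  rw [← Groth.L22.AffineDim.height_of_isMaximal (k := k) (B ⧸ P) m]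
  exact WithBot.coe_le_coe.2 (height_quot_le P q m hm)

end Groth.L28.AffLef
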