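import Groth.Agent.L28.AffLef.Lim
import Groth.Agent.L28.AffLef.Prime
import Groth.Agent.L28.AffLef.Dim
import Groth.Agent.L28.AffLef.Shrink
import Groth.Agent.L28.SHClosed.Model
import Groth.Agent.L27.StalkRpush.Ring
import Groth.Agent.L05.Henselization.Fibres

/-! # Localisations of strictly local rings at one function -/

set_option autoImplicit false
set_option linter.style.haveILetI false
set_option linter.unusedSectionVars false
set_option backward.isDefEq.respectTransparency.types false

universe u

open CategoryTheory CategoryTheory.Limits AlgebraicGeometry Opposite IsLocalRing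
open scoped TensorProduct

noncomputable section

namespace Groth.L28.AffLef

open Groth.L27 Groth.L05.Henselization

/-- The affine bound in dimension `m`. -/
def AffBound (ℓ m : ℕ) : Prop :=
  ∀ (K : Type u) [Field K] (e : ℕ), FieldTower.CdLE ℓ (Spec (CommRingCat.of K)) e →
    ∀ (X : Scheme.{u}) [IsAffine X] (f : X ⟶ Spec (CommRingCat.of K)) [LocallyOfFiniteType f],
      topologicalKrullDim X ≤ m → FieldTower.CdLE ℓ X (e + m)

/-- The generic fibre, as a type of its own. -/
def GF (k : Type u) [Field k] (E : Type u) [CommRing E] [Algebra (Polynomial k) E] : Type u := GenFib k E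

instance (k : Type u) [Field k] (E : Type u) [CommRing E] [Algebra (Polynomial k) E] : CommRing (GF k E) :=
  inferInstanceAs (CommRing (GenFib k E))

instance (k : Type u) [Field k] (E : Type u) [CommRing E] [Algebra (Polynomial k) E] : Algebra E (GF k E) :=
  inferInstanceAs (Algebra E (GenFib k E))

instance (k : Type u) [Field k] (E : Type u) [CommRing E] [Algebra (Polynomial k) E] :
    IsLocalization (Algebra.algebraMapSubmonoid E (nonZeroDivisors (Polynomial k))) (GF k E) :=
  inferInstanceAs (IsLocalization (Algebra.algebraMapSubmonoid E (nonZeroDivisors (Polynomial k))) (GenFib k E))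

variable {ℓ m : ℕ} (hℓ : ℓ.Prime) (ih : AffBound.{u} ℓ m)

include hℓ ih in
/-- The closed point case. -/
theorem cdLE_away_closed (k : Type u) [Field k] [IsSepClosed k] (B : Type u) [CommRing B] [Algebra k B]
    [Algebra.FiniteType k B] (L : Type u) [Field L] [IsSepClosed L] [Algebra B L]
    (R : Type u) [CommRing R] [IsLocalRing R] [Algebra B R] (e : Col B L ≃ₐ[B] R)
    (E : Type u) [CommRing E] [Algebra k E] [Algebra.FiniteType k E] [Algebra B E] [Algebra E R]
    [IsScalarTower B E R] (hE : ringKrullDim E ≤ (m + 1 : ℕ)) (f : E) (hf : algebraMap E R f ∈ maximalIdeal R) :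
    FieldTower.CdLE ℓ (Spec (CommRingCat.of (Localization.Away (algebraMap E R f)))) (m + 1) := by
  let P := Polynomial k
  letI : Algebra P E := (Polynomial.aeval f).toRingHom.toAlgebra
  haveI : IsScalarTower k P E := IsScalarTower.of_algebraMap_eq fun c => ((Polynomial.aeval f).commutes c).symm
  haveI : Algebra.FiniteType P E := Algebra.FiniteType.of_restrictScalars_finiteType k P E
  let E' := GF k E
  letI : Algebra B E' := ((algebraMap E E').comp (algebraMap B E)).toAlgebra
  let W := Localization.Away (algebraMap E R f)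
  have hunit : ∀ y : Algebra.algebraMapSubmonoid E (nonZeroDivisors P), IsUnit (algebraMap E W y) := by
    rintro ⟨_, h, hh, rfl⟩
    have hh0 : h ≠ 0 := nonZeroDivisors.ne_zero hh
    obtain ⟨h1, he, hnd⟩ := Polynomial.exists_eq_pow_rootMultiplicity_mul_and_not_dvd h hh0 0
    rw [map_zero, sub_zero] at he hnd
    show IsUnit (algebraMap R W (algebraMap E R (Polynomial.aeval f h)))
    rw [he, map_mul, map_pow, Polynomial.aeval_X, map_mul, map_pow, map_mul, map_pow]
    refine ((IsLocalization.Away.algebraMap_isUnit (algebraMap E R f)).pow _).mul (IsUnit.map _ ?_)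
    refine notMem_maximalIdeal.1 fun hm' => ?_
    obtain ⟨c, hc⟩ : ∃ c : k, c = h1.coeff 0 := ⟨_, rfl⟩
    have hc0 : c ≠ 0 := fun h0 => hnd (Polynomial.X_dvd_iff.2 (hc ▸ h0))
    rw [← Polynomial.X_mul_divX_add h1, map_add, map_mul, Polynomial.aeval_X, Polynomial.aeval_C, map_add,
      map_mul] at hm'
    have h2 : algebraMap E R (algebraMap k E (h1.coeff 0)) ∈ maximalIdeal R :=
      (Ideal.add_mem_iff_right _ (Ideal.mul_mem_right _ _ hf)).1 hm'
    exact notMem_maximalIdeal.2 (((isUnit_iff_ne_zero.2 (hc ▸ hc0)).map (algebraMap k E)).map (algebraMap E R)) h2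
  let a : E' →+* W := IsLocalization.lift (M := Algebra.algebraMapSubmonoid E (nonZeroDivisors P)) hunit
  have ha : ∀ x, a (algebraMap E E' x) = algebraMap R W (algebraMap E R x) := fun x => IsLocalization.lift_eq hunit x
  have hab : ∀ b : B, a (algebraMap B E' b) = algebraMap B W b := fun b => by
    show a (algebraMap E E' (algebraMap B E b)) = algebraMap R W (algebraMap B R b)
    rw [ha, ← IsScalarTower.algebraMap_apply B E R]
  let a' : E' →ₐ[B] W := { a with commutes' := hab }
  let b' : R →ₐ[B] W := { algebraMap R W with commutes' := fun _ => rfl }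
  let μ : E' ⊗[B] R →ₐ[B] W := Algebra.TensorProduct.lift a' b' fun _ _ => Commute.all _ _
  have hμ : Function.Surjective μ := fun w => by
    obtain ⟨⟨r, ⟨_, n, rfl⟩⟩, hw⟩ := IsLocalization.surj (Submonoid.powers (algebraMap E R f)) w
    dsimp only at hw
    have hu : IsUnit (algebraMap E E' f) := IsLocalization.map_units E'
      (⟨f, Polynomial.X, mem_nonZeroDivisors_of_ne_zero Polynomial.X_ne_zero, Polynomial.aeval_X f⟩ :
        Algebra.algebraMapSubmonoid E (nonZeroDivisors P))
    refine ⟨(↑(hu.unit⁻¹ ^ n) : E') ⊗ₜ r, ((IsLocalization.map_units W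
      (⟨(algebraMap E R f) ^ n, n, rfl⟩ : Submonoid.powers (algebraMap E R f))).mul_left_inj).1 (Eq.trans ?_ hw.symm)⟩
    rw [Algebra.TensorProduct.lift_tmul]
    show a (↑(hu.unit⁻¹ ^ n) : E') * algebraMap R W r * algebraMap R W (algebraMap E R f ^ n) = algebraMap R W r
    rw [map_pow, ← ha, mul_right_comm, ← map_pow a, ← map_mul, Units.val_pow_eq_pow_val, ← mul_pow,
      IsUnit.val_inv_mul, one_pow, map_one, one_mul]
  let g : Spec (CommRingCat.of E') ⟶ Spec (CommRingCat.of B) := Spec.map (CommRingCat.ofHom (algebraMap B E'))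
  let c : Spec (CommRingCat.of W) ⟶ Spec (CommRingCat.of (E' ⊗[B] R)) := Spec.map (CommRingCat.ofHom μ.toRingHom)
  haveI : IsClosedImmersion c := IsClosedImmersion.spec_of_surjective _ hμ
  let ε : Spec (CommRingCat.of (E' ⊗[B] R)) ≅ StalkRpush.Xbar g B (𝟙 (Spec (CommRingCat.of B))) R :=
    (pullbackSpecIso B E' R).symm ≪≫ pullback.congrHom rfl (Category.comp_id _).symm
  refine (cdLE_of_stages g B (𝟙 _) L R e fun i => ?_).of_integral (c ≫ ε.hom)
  have hK : FieldTower.CdLE ℓ (Spec (CommRingCat.of (FieldTower.RatF k))) 1 :=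
    FieldTower.cdLE_one_of_trdeg_one hℓ k (FieldTower.RatF k) (FieldTower.trdeg_ratF k)
  haveI : IsAffineHom g := inferInstance
  let t := StalkRpush.tt g B (𝟙 _) L i
  haveI : IsAffine ((StalkRpush.D g B (𝟙 (Spec (CommRingCat.of B))) L).obj i) := by
    show IsAffine (pullback ((StalkRpush.nb B (𝟙 _) L).obj i).hom g)
    haveI : IsAffine ((𝟭 Scheme.{u}).obj ((StalkRpush.nb B (𝟙 (Spec (CommRingCat.of B))) L).obj i).left) :=
      inferInstanceAs (IsAffine (Spec (CommRingCat.of i.unop.R)))
    exact @isAffine_of_isAffineHom _ _ (pullback.fst ((StalkRpush.nb B (𝟙 _) L).obj i).hom g)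
      (MorphismProperty.pullback_fst (P := @IsAffineHom) _ g inferInstance) inferInstance
  haveI : IsNoetherianRing E := Algebra.FiniteType.isNoetherianRing k E
  haveI : IsNoetherianRing E' := IsLocalization.isNoetherianRing (Algebra.algebraMapSubmonoid E (nonZeroDivisors P)) E' inferInstance
  haveI : LocallyOfFiniteType t := inferInstanceAs (LocallyOfFiniteType (StalkRpush.tt g B (𝟙 _) L i))
  haveI : LocallyOfFiniteType (t ≫ genFibHom k E) :=
    MorphismProperty.comp_mem @LocallyOfFiniteType _ (genFibHom k E) ‹LocallyOfFiniteType t› inferInstance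
  rw [add_comm]
  exact ih (FieldTower.RatF k) 1 hK _ (t ≫ genFibHom k E)
    (topologicalKrullDim_le_of_etale t (topologicalKrullDim_genFib_le k E hE))

include hℓ ih in
/-- The bound for the localisations of strictly local rings. -/
theorem cdLE_away (k : Type u) [Field k] (X : Scheme.{u}) (fX : X ⟶ Spec (CommRingCat.of k))
    [LocallyOfFiniteType fX] (z : X) (A : Type u) [CommRing A] [IsLocalRing A] [Algebra (X.presheaf.stalk z) A]
    [IsLocalHom (algebraMap (X.presheaf.stalk z) A)] [Hensel.IsStrictHenselization (X.presheaf.stalk z) A]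
    (hA : ringKrullDim A ≤ (m + 1 : ℕ)) (f : A) (hf : f ∈ maximalIdeal A) :
    FieldTower.CdLE ℓ (Spec (CommRingCat.of (Localization.Away f))) (m + 1) := by
  obtain ⟨σ, _, p, _, hp, Rh, _, _, _, _, hRh, X', f', _, _, x', hx', -, _, _, hS⟩ :=
    Groth.Agent.L28.SHClosed.exists_model k fX z (Subsingleton.elim (α := PrimeSpectrum k) _ _) A
  have hp0 : p = ⊥ := by
    rw [hp, Ideal.eq_bot_of_prime (maximalIdeal k)]
    exact Ideal.map_bot
  have hmax : maximalIdeal Rh = ⊥ := by
    refine eq_bot_iff.2 fun a ha => ?_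
    obtain ⟨t, ht, hta⟩ := hasReducedPointFibres_strict (Localization.AtPrime p) Rh (maximalIdeal Rh) inferInstance a ha
    have h0 : (maximalIdeal Rh).comap (algebraMap (Localization.AtPrime p) Rh) = ⊥ := by
      rw [IsLocalRing.maximalIdeal_comap, ← Localization.AtPrime.map_eq_maximalIdeal]
      exact (congrArg (Ideal.map (algebraMap (MvPolynomial σ k) (Localization.AtPrime p))) hp0).trans Ideal.map_bot
    rw [h0, Ideal.map_bot, Ideal.mem_bot] at hta
    exact (Ideal.mem_bot).2 ((notMem_maximalIdeal.1 ht).mul_right_eq_zero.1 hta)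
  have hfield : IsField Rh := (IsLocalRing.isField_iff_maximalIdeal_eq).2 hmax
  letI : Field Rh := hfield.toField
  haveI : IsSepClosed Rh := by
    haveI : IsSepClosed (ResidueField Rh) := hRh.isSepClosure.sep_closed
    let eR : ResidueField Rh ≃+* Rh := (Ideal.quotEquivOfEq hmax).trans (RingEquiv.quotientBot Rh)
    exact IsSepClosed.of_exists_root _ fun P hPm hirr hsep => by
      obtain ⟨x, hx⟩ := IsSepClosed.exists_root (P.map eR.symm.toRingHom)
        (by rw [Polynomial.degree_map]; exact hirr.degree_pos.ne') (hsep.map (f := eR.symm.toRingHom))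
      refine ⟨eR x, eR.symm.injective ?_⟩
      rw [map_zero, ← hx.eq_zero, Polynomial.eval_map, show eR.symm (P.eval (eR x)) =
        eR.symm.toRingHom (P.eval (eR x)) from rfl, ← Polynomial.eval₂_at_apply]
      simp
  obtain ⟨U, hU, hxU, -⟩ :=
    exists_isAffineOpen_mem_and_subset (X := X') (x := x') (U := ⊤) (TopologicalSpace.Opens.mem_top x')
  let B := Γ(X', U)
  let O := X'.presheaf.stalk x'
  have le : U ≤ f' ⁻¹ᵁ ⊤ := le_top
  letI : Algebra Rh B := ((Scheme.ΓSpecIso (CommRingCat.of Rh)).inv ≫ f'.appLE ⊤ U le).hom.toAlgebra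
  haveI : Algebra.FiniteType Rh B :=
    RingHom.finiteType_algebraMap.mp ((LocallyOfFiniteType.finiteType_appLE f' (isAffineOpen_top _) hU le).comp
      (RingHom.FiniteType.of_surjective _
        ((Scheme.ΓSpecIso (CommRingCat.of Rh)).symm.commRingCatIsoToRingEquiv.surjective)))
  letI : Algebra B O := (X'.presheaf.germ U x' hxU).hom.toAlgebra
  let q₀ := (hU.primeIdealOf ⟨x', hxU⟩).asIdeal
  haveI : IsLocalization.AtPrime O q₀ := hU.isLocalization_stalk ⟨x', hxU⟩
  letI : Algebra B A := ((algebraMap O A).comp (algebraMap B O)).toAlgebra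
  haveI : IsScalarTower B O A := IsScalarTower.of_algebraMap_eq' rfl
  haveI : IsSepClosed (ResidueField A) := hS.isSepClosure.sep_closed
  obtain ⟨e, -⟩ := StalkRpush.exists_algEquiv B q₀ O A
  obtain ⟨Xo, x, hx⟩ := ι_surj (e.symm f)
  haveI : Algebra.Etale B Xo.R := Xo.etale
  let φ : Xo.R →ₐ[B] A := e.toAlgHom.comp (ι Xo)
  have hφx : φ x = f := (congrArg e hx).trans (e.apply_symm_apply f)
  haveI : Algebra.FiniteType Rh Xo.R := Algebra.FiniteType.trans (inferInstance : Algebra.FiniteType Rh B) inferInstance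
  letI : Algebra Rh A := ((algebraMap B A).comp (algebraMap Rh B)).toAlgebra
  haveI : IsScalarTower Rh B A := IsScalarTower.of_algebraMap_eq' rfl
  let q : Ideal Xo.R := (maximalIdeal A).comap φ.toRingHom
  haveI : IsLocalHom (algebraMap O A) := inferInstance
  have hq0 : q.comap (algebraMap B Xo.R) = q₀ := by
    refine (Ideal.comap_comap _ _).trans ((congrArg (fun r : B →+* A => (maximalIdeal A).comap r) φ.comp_algebraMap).trans ?_)
    rw [show algebraMap B A = (algebraMap O A).comp (algebraMap B O) from rfl,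
      ← Ideal.comap_comap, IsLocalRing.maximalIdeal_comap]
    exact IsLocalization.AtPrime.under_maximalIdeal O q₀
  have hmax0 : q₀.IsMaximal := by
    have h1 : IsClosed ({(⟨x', hxU⟩ : U)} : Set U) := by
      rw [show ({(⟨x', hxU⟩ : U)} : Set U) = Subtype.val ⁻¹' {x'} from Set.ext fun w => Subtype.ext_iff]
      exact hx'.preimage continuous_subtype_val
    have h2 : IsClosed ({hU.primeIdealOf ⟨x', hxU⟩} : Set (PrimeSpectrum B)) := by
      have := hU.isoSpec.hom.homeomorph.isClosedMap ({(⟨x', hxU⟩ : U)} : Set U) h1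
      exact (congrArg IsClosed Set.image_singleton).mp this
    exact (PrimeSpectrum.isClosed_singleton_iff_isMaximal _).1 h2
  haveI : q.IsMaximal := by
    haveI := hmax0
    haveI : q.LiesOver q₀ := ⟨hq0.symm⟩
    obtain ⟨N, hN, hqN⟩ := Ideal.exists_le_maximal q (Ideal.IsPrime.ne_top inferInstance)
    haveI := hN
    have hqN' : q.under B = N.under B := hq0.trans (hmax0.eq_of_le (Ideal.IsPrime.ne_top inferInstance)
      (hq0.ge.trans (Ideal.comap_mono hqN)))
    exact (Algebra.QuasiFinite.eq_of_le_of_under_eq q N hqN hqN') ▸ hN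
  have hdim : (q.height : WithBot ℕ∞) ≤ (m + 1 : ℕ) := by
    let π : Spec (CommRingCat.of Xo.R) ⟶ Spec (CommRingCat.of B) := Spec.map (CommRingCat.ofHom (algebraMap B Xo.R))
    haveI : AlgebraicGeometry.Etale π := (HasRingHomProperty.Spec_iff (P := @AlgebraicGeometry.Etale)).2
      (RingHom.etale_algebraMap.2 inferInstance)
    haveI : IsNoetherianRing B := Algebra.FiniteType.isNoetherianRing Rh B
    let zq : Spec (CommRingCat.of Xo.R) := ⟨q, inferInstance⟩
    have h := Groth.Agent.S0120.result π zq
    rw [ringKrullDim_stalk_eq_coheight, ringKrullDim_stalk_eq_coheight, ← idealHeight_eq_coheight,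
      ← idealHeight_eq_coheight] at h
    refine h.trans_le ?_
    rw [show (π.base zq).asIdeal = q₀ from hq0]
    rw [← IsLocalization.AtPrime.ringKrullDim_eq_height q₀ O,
      ← L05.Henselization.ringKrullDim_strict O A]
    exact hA
  obtain ⟨g, hg, hdim'⟩ := exists_away_dim Rh Xo.R q
  have hgu : IsUnit (φ g) := notMem_maximalIdeal.1 hg
  let E := Localization.Away g
  letI : Algebra E A := (IsLocalization.Away.lift g (g := φ.toRingHom) hgu).toAlgebra
  haveI : IsScalarTower B E A := IsScalarTower.of_algebraMap_eq fun b => by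
    show _ = IsLocalization.Away.lift g (g := φ.toRingHom) hgu (algebraMap B E b)
    rw [IsScalarTower.algebraMap_apply B Xo.R E, IsLocalization.Away.lift_eq]
    exact (φ.commutes b).symm
  have hxf : algebraMap E A (algebraMap Xo.R E x) = f :=
    (IsLocalization.Away.lift_eq g (g := φ.toRingHom) hgu x).trans hφx
  haveI : Algebra.FiniteType Rh E := Algebra.FiniteType.trans (inferInstance : Algebra.FiniteType Rh Xo.R) inferInstance
  have := cdLE_away_closed hℓ ih Rh B (ResidueField A) A e E (hdim'.trans hdim) (algebraMap Xo.R E x) (hxf ▸ hf)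
  rwa [hxf] at this

end Groth.L28.AffLef
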