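import Groth.Agent.L28.AffLef.TrdegDim
import Groth.Agent.L28.AffLef.SepModel
import Groth.Agent.L28.AffLef.Main

/-! # Affine Lefschetz over a strictly local ring -/

set_option autoImplicit false
set_option linter.style.haveILetI false
set_option linter.unusedSectionVars false
set_option backward.isDefEq.respectTransparency.types false

universe u

open CategoryTheory CategoryTheory.Limits AlgebraicGeometry Opposite IsLocalRing
open scoped TensorProduct

noncomputable section

namespace Groth.L28.AffLef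

open Groth.L27 Groth.L05.Henselization

/-- The affine scheme of an algebra of finite type over a strictly local ring, the components of
which have transcendence degree at most `d`. -/
theorem cdLE_strict {ℓ : ℕ} (hℓ : ℓ.Prime) (k : Type u) [Field k] [IsSepClosed k] (B : Type u) [CommRing B]
    [Algebra k B] [Algebra.FiniteType k B] (L : Type u) [Field L] [IsSepClosed L] [Algebra B L]
    (R : Type u) [CommRing R] [Algebra B R] [Algebra k R] [IsScalarTower k B R] (e : Col B L ≃ₐ[B] R)
    (W : Type u) [CommRing W] [Algebra R W] [Algebra.FiniteType R W] [Algebra k W] [IsScalarTower k R W] (d : ℕ)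
    (h : ∀ x : PrimeSpectrum W, Algebra.trdeg k (W ⧸ x.asIdeal) ≤ (d : Cardinal)) :
    FieldTower.CdLE ℓ (Spec (CommRingCat.of W)) d := by
  classical
  letI : Algebra B W := ((algebraMap R W).comp (algebraMap B R)).toAlgebra
  haveI : IsScalarTower B R W := IsScalarTower.of_algebraMap_eq' rfl
  haveI : IsScalarTower k B W := IsScalarTower.of_algebraMap_eq fun c => by
    rw [IsScalarTower.algebraMap_apply k R W, IsScalarTower.algebraMap_apply k B R]
    rfl
  obtain ⟨t, ht⟩ := (inferInstance : Algebra.FiniteType R W).out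
  let S := Algebra.adjoin B (t : Set W)
  haveI : Algebra.FiniteType B S := (Subalgebra.fg_iff_finiteType _).1 (Subalgebra.fg_adjoin_finset t)
  haveI : Algebra.FiniteType k S := Algebra.FiniteType.trans (inferInstance : Algebra.FiniteType k B) inferInstance
  have hS : ringKrullDim S ≤ d := ringKrullDim_le_of_trdeg k S d fun P hP => by
    haveI := hP.isPrime
    obtain ⟨Q, hQ⟩ := Ideal.exists_comap_eq_of_mem_minimalPrimes_of_injective
      (f := (S.val : S →+* W)) Subtype.val_injective P hP
    obtain ⟨hQp, hQP⟩ := hQ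
    haveI := hQp
    let φ : (S ⧸ P) →ₐ[k] (W ⧸ Q) := Ideal.Quotient.liftₐ P
      ((Ideal.Quotient.mkₐ k Q).comp (S.val.restrictScalars k))
      fun a ha => Ideal.Quotient.eq_zero_iff_mem.2 (by
        rw [← hQP] at ha
        exact ha)
    refine (trdeg_le_of_injective φ ?_).trans (h ⟨Q, hQp⟩)
    rw [injective_iff_map_eq_zero]
    intro a ha
    obtain ⟨a, rfl⟩ := Ideal.Quotient.mk_surjective a
    refine Ideal.Quotient.eq_zero_iff_mem.2 ?_
    rw [← hQP]
    exact (Ideal.Quotient.eq_zero_iff_mem.1 (show Ideal.Quotient.mk Q (a : W) = 0 from ha) :)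
  let μ : S ⊗[B] R →ₐ[B] W := Algebra.TensorProduct.lift S.val (IsScalarTower.toAlgHom B R W)
    fun _ _ => Commute.all _ _
  have hμ : Function.Surjective μ := fun w => by
    have hw : w ∈ Algebra.adjoin R (t : Set W) := ht ▸ Algebra.mem_top
    induction hw using Algebra.adjoin_induction with
    | mem x hx => exact ⟨(⟨x, Algebra.subset_adjoin hx⟩ : S) ⊗ₜ 1, by simp [μ]⟩
    | algebraMap r => exact ⟨1 ⊗ₜ r, by simp [μ]⟩
    | add x y _ _ hx hy =>
      obtain ⟨a, rfl⟩ := hx
      obtain ⟨b, rfl⟩ := hy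
      exact ⟨a + b, map_add μ a b⟩
    | mul x y _ _ hx hy =>
      obtain ⟨a, rfl⟩ := hx
      obtain ⟨b, rfl⟩ := hy
      exact ⟨a * b, map_mul μ a b⟩
  let g : Spec (CommRingCat.of S) ⟶ Spec (CommRingCat.of B) := Spec.map (CommRingCat.ofHom (algebraMap B S))
  let c : Spec (CommRingCat.of W) ⟶ Spec (CommRingCat.of (S ⊗[B] R)) := Spec.map (CommRingCat.ofHom μ.toRingHom)
  haveI : IsClosedImmersion c := IsClosedImmersion.spec_of_surjective _ hμ
  let ε : Spec (CommRingCat.of (S ⊗[B] R)) ≅ StalkRpush.Xbar g B (𝟙 (Spec (CommRingCat.of B))) R :=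
    (pullbackSpecIso B S R).symm ≪≫ pullback.congrHom rfl (Category.comp_id _).symm
  refine (cdLE_of_stages g B (𝟙 _) L R e fun i => ?_).of_integral (c ≫ ε.hom)
  have hK : FieldTower.CdLE ℓ (Spec (CommRingCat.of k)) 0 := fun G _ r hr => by
    obtain ⟨i, rfl⟩ : ∃ i, r = i + 1 := ⟨r - 1, by omega⟩
    exact CurveCd.subsingleton_H_sepClosed _ G i
  haveI : IsAffineHom g := inferInstance
  let τ := StalkRpush.tt g B (𝟙 _) L i
  haveI : IsAffine ((StalkRpush.D g B (𝟙 (Spec (CommRingCat.of B))) L).obj i) := by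
    show IsAffine (pullback ((StalkRpush.nb B (𝟙 _) L).obj i).hom g)
    haveI : IsAffine ((𝟭 Scheme.{u}).obj ((StalkRpush.nb B (𝟙 (Spec (CommRingCat.of B))) L).obj i).left) :=
      inferInstanceAs (IsAffine (Spec (CommRingCat.of i.unop.R)))
    exact @isAffine_of_isAffineHom _ _ (pullback.fst ((StalkRpush.nb B (𝟙 _) L).obj i).hom g)
      (MorphismProperty.pullback_fst (P := @IsAffineHom) _ g inferInstance) inferInstance
  haveI : IsNoetherianRing S := Algebra.FiniteType.isNoetherianRing k S
  haveI : AlgebraicGeometry.Etale τ := inferInstanceAs (AlgebraicGeometry.Etale (StalkRpush.tt g B (𝟙 _) L i))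
  let sk : Spec (CommRingCat.of S) ⟶ Spec (CommRingCat.of k) := Spec.map (CommRingCat.ofHom (algebraMap k S))
  haveI : LocallyOfFiniteType sk := by
    rw [HasRingHomProperty.Spec_iff (P := @LocallyOfFiniteType)]
    exact RingHom.finiteType_algebraMap.mpr inferInstance
  haveI : LocallyOfFiniteType (τ ≫ sk) :=
    MorphismProperty.comp_mem @LocallyOfFiniteType τ sk inferInstance inferInstance
  have := affBound hℓ d k 0 hK _ (τ ≫ sk)
    (topologicalKrullDim_le_of_etale τ ((PrimeSpectrum.topologicalKrullDim_eq_ringKrullDim S).trans_le hS))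
  rwa [zero_add] at this

/-- Vanishing for sheaves supported on points of small transcendence degree. -/
theorem subsingleton_H_strict (k : Type u) [Field k] [IsSepClosed k] (B : Type u) [CommRing B]
    [Algebra k B] [Algebra.FiniteType k B] (L : Type u) [Field L] [IsSepClosed L] [Algebra B L]
    (R : Type u) [CommRing R] [IsNoetherianRing R] [Algebra B R] [Algebra k R] [IsScalarTower k B R]
    (e : Col B L ≃ₐ[B] R)
    (W : Type u) [CommRing W] [Algebra R W] [Algebra.FiniteType R W] [Algebra k W] [IsScalarTower k R W] (d : ℕ)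
    (F : EtCoh.Ab (Spec (CommRingCat.of W))) (hF : EtCoh.IsTorsion F)
    (hs : ∀ x ∈ EtPBC.supp F, Algebra.trdeg k (W ⧸ (x : PrimeSpectrum W).asIdeal) ≤ (d : Cardinal))
    (q : ℕ) (hq : d < q) : Subsingleton (EtCoh.H (Spec (CommRingCat.of W)) F q) := by
  haveI : IsNoetherianRing W := Algebra.FiniteType.isNoetherianRing R W
  haveI : AlgebraicGeometry.IsNoetherian (Spec (CommRingCat.of W)) := inferInstance
  let P : Set ↥(Spec (CommRingCat.of W)) :=
    {x | Algebra.trdeg k (W ⧸ (x : PrimeSpectrum W).asIdeal) ≤ (d : Cardinal)}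
  have hP : ∀ a b : ↥(Spec (CommRingCat.of W)), a ⤳ b → a ∈ P → b ∈ P := fun a b hab ha => by
    have hle : (a : PrimeSpectrum W).asIdeal ≤ (b : PrimeSpectrum W).asIdeal :=
      (PrimeSpectrum.le_iff_specializes a b).2 hab
    exact (trdeg_le_of_surjective (Ideal.Quotient.factorₐ k hle) (Ideal.Quotient.factor_surjective hle)).trans ha
  refine subsingleton_H_of_primes F hF (fun G => EtPBC.supp G ⊆ P) hs (fun v _ h => (supp_mono v).trans h)
    (fun v _ h => (supp_epi v).trans h) fun ℓ hℓ G hG hGs =>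
      subsingleton_H_supp P hP G hG hGs (m := d) (fun Z ι _ hZ => ?_) q hq
  obtain ⟨I, ι', hι⟩ := IsClosedImmersion.Spec_iff.1 (inferInstance : IsClosedImmersion ι)
  refine (cdLE_strict hℓ k B L R e (W ⧸ I) d fun x => ?_).of_integral ι'.hom
  have hx := hZ ⟨ι'.inv x, rfl⟩
  rw [hι, Scheme.Hom.comp_apply, ← Scheme.Hom.comp_apply ι'.inv, ι'.inv_hom_id] at hx
  let φ : (W ⧸ x.asIdeal.comap (Ideal.Quotient.mk I)) →ₐ[k] (W ⧸ I) ⧸ x.asIdeal :=
    Ideal.Quotient.liftₐ _ ((Ideal.Quotient.mkₐ k x.asIdeal).comp (Ideal.Quotient.mkₐ k I))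
      fun a ha => Ideal.Quotient.eq_zero_iff_mem.2 ha
  refine (trdeg_le_of_surjective φ fun y => ?_).trans hx
  obtain ⟨y, rfl⟩ := Ideal.Quotient.mk_surjective y
  obtain ⟨y, rfl⟩ := Ideal.Quotient.mk_surjective y
  exact ⟨Ideal.Quotient.mk _ y, rfl⟩

/-- Evaluation at a point of an affine scheme. -/
def evalAt (R : CommRingCat.{u}) (z : Spec R) : R ⟶ (Spec R).residueField z :=
  CommRingCat.ofHom (algebraMap R z.asIdeal.ResidueField) ≫ (Scheme.Spec.residueFieldIso R z).inv

theorem specMap_evalAt (R : CommRingCat.{u}) (z : Spec R) :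
    Spec.map (evalAt R z) = (Spec R).fromSpecResidueField z := by
  rw [evalAt, Spec.map_comp, Scheme.Spec.map_residueFieldIso_inv_eq_fromSpecResidueField]

theorem evalAt_eq_zero (R : CommRingCat.{u}) (z : Spec R) (r : R) : evalAt R z r = 0 ↔ r ∈ z.asIdeal := by
  rw [← Ideal.algebraMap_residueField_eq_zero (I := z.asIdeal)]
  exact map_eq_zero_iff _ (Scheme.Spec.residueFieldIso R z).symm.commRingCatIsoToRingEquiv.injective

/-- The residue field of a point of an affine scheme has the transcendence degree of the quotient. -/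
theorem trdeg_residueField_le {k R : Type u} [Field k] [CommRing R] [Algebra k R]
    (z : Spec (CommRingCat.of R)) {d : ℕ} (h : Algebra.trdeg k (R ⧸ (z : PrimeSpectrum R).asIdeal) ≤ (d : Cardinal)) :
    @Algebra.trdeg k ((Spec (CommRingCat.of R)).residueField z) _ _
      ((evalAt (CommRingCat.of R) z).hom.comp (algebraMap k R)).toAlgebra ≤ (d : Cardinal) := by
  let p : Ideal R := (z : PrimeSpectrum R).asIdeal
  letI := ((evalAt (CommRingCat.of R) z).hom.comp (algebraMap k R)).toAlgebra
  let ρ : p.ResidueField →ₐ[k] (Spec (CommRingCat.of R)).residueField z :=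
    { (Scheme.Spec.residueFieldIso (CommRingCat.of R) z).inv.hom with
      commutes' := fun c => by
        show (Scheme.Spec.residueFieldIso (CommRingCat.of R) z).inv.hom (algebraMap k p.ResidueField c) = _
        rw [IsScalarTower.algebraMap_apply k R p.ResidueField]
        rfl }
  refine (trdeg_le_of_surjective ρ
    (Scheme.Spec.residueFieldIso (CommRingCat.of R) z).symm.commRingCatIsoToRingEquiv.surjective).trans ?_
  haveI : Algebra.IsAlgebraic (R ⧸ p) p.ResidueField := IsLocalization.isAlgebraic _ (nonZeroDivisors (R ⧸ p))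
  haveI : FaithfulSMul (R ⧸ p) p.ResidueField :=
    (faithfulSMul_iff_algebraMap_injective _ _).2 (IsFractionRing.injective (R ⧸ p) p.ResidueField)
  haveI : FaithfulSMul k (R ⧸ p) := (faithfulSMul_iff_algebraMap_injective _ _).2 (algebraMap k (R ⧸ p)).injective
  rw [← trdeg_add_eq k (R ⧸ p) (A := p.ResidueField), trdeg_eq_zero (R := R ⧸ p) (A := p.ResidueField), add_zero]
  exact h

/-- Affine Lefschetz over a strict localisation. -/
theorem subsingleton_H_strictLocal (k : Type u) [Field k] (Y : Scheme.{u})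
    (g : Y ⟶ Spec (CommRingCat.of k)) [LocallyOfFiniteType g] (y : Y)
    (R : Type u) [CommRing R] [IsLocalRing R] [Algebra (Y.presheaf.stalk y) R]
    [IsLocalHom (algebraMap (Y.presheaf.stalk y) R)] [Hensel.IsStrictHenselization (Y.presheaf.stalk y) R]
    (X' : Scheme.{u}) (f' : X' ⟶ Spec (CommRingCat.of R)) [IsAffineHom f'] [LocallyOfFiniteType f']
    (F : EtCoh.Ab X') (hF : EtCoh.IsTorsion F) (d : ℕ)
    (hδ : ∀ x ∈ EtPBC.supp F, ∃ a b : ℕ,
      ringKrullDim (R ⧸ (f'.base x).asIdeal) = a ∧
      (letI := (f'.residueFieldMap x).hom.toAlgebra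
       Algebra.trdeg ((Spec (CommRingCat.of R)).residueField (f'.base x)) (X'.residueField x)) = b ∧ a + b ≤ d)
    (q : ℕ) (hq : d < q) : Subsingleton (EtCoh.H X' F q) := by
  haveI : IsLocallyNoetherian Y := LocallyOfFiniteType.isLocallyNoetherian g
  haveI : IsNoetherianRing R :=
    (isNoetherianRing_iff_strict (Y.presheaf.stalk y) R).1 inferInstance
  obtain ⟨k', _, _, B, _, _, _, _, _, _, _, ⟨e⟩, hmax⟩ := exists_sep_model k Y g y R
  haveI := hmax
  haveI : IsAffine X' := isAffine_of_isAffineHom f'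
  let W := Γ(X', ⊤)
  let iX : Spec W ⟶ X' := X'.isoSpec.inv
  obtain ⟨φ, hφ⟩ := Spec.map_surjective (iX ≫ f')
  letI : Algebra R W := φ.hom.toAlgebra
  haveI : Algebra.FiniteType R W := by
    haveI : LocallyOfFiniteType (Spec.map φ) := by
      rw [hφ]
      infer_instance
    exact RingHom.finiteType_algebraMap.mp (HasRingHomProperty.Spec_iff.mp this)
  letI : Algebra k' W := ((algebraMap R W).comp (algebraMap k' R)).toAlgebra
  haveI : IsScalarTower k' R W := IsScalarTower.of_algebraMap_eq' rfl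
  haveI := EtSite.preservesFiniteLimits_pull iX
  have hrange : EtPBC.supp F ⊆ Set.range iX.base := fun x _ => ⟨X'.isoSpec.hom.base x, by
    rw [← Scheme.Hom.comp_apply, X'.isoSpec.hom_inv_id]
    rfl⟩
  haveI := (EtSite.isIso_unit_iff iX (EtSite.propA_of_isIntegralHom iX) F).2 hrange
  refine Devissage.of_iso (asIso ((EtCoh.pullPushAdj iX).unit.app F)) q (Devissage.of_push iX _ q ?_)
  refine subsingleton_H_strict k' B (ResidueField R) R e W d ((EtCoh.pull iX).obj F)
    (CurveCd.isTorsion_pull iX hF) (fun x₀ hx₀ => ?_) q hq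
  have hx : iX.base x₀ ∈ EtPBC.supp F := by
    obtain ⟨Ω, _, _, ξ, hξ, hne⟩ := hx₀
    refine ⟨Ω, inferInstance, inferInstance, ξ ≫ iX, Spz.range_eq_singleton _ ((Scheme.Hom.comp_apply _ _ _).trans
      (congrArg iX.base (show ξ.base default = x₀ from hξ.subset ⟨_, rfl⟩))), fun h0 => hne ?_⟩
    exact IsZero.of_iso h0 ((EtSite.stalkPullIso iX ξ).app _)
  obtain ⟨a, b, ha, hb, hab⟩ := hδ _ hx
  generalize hx' : iX.base x₀ = x at ha hb
  let y' := f'.base x
  let ev : W ⟶ X'.residueField x :=
    evalAt W (X'.isoSpec.hom.base x) ≫ X'.isoSpec.hom.residueFieldMap x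
  have hev : Spec.map ev = X'.fromSpecResidueField x ≫ X'.isoSpec.hom := by
    rw [Spec.map_comp, specMap_evalAt, Scheme.Hom.SpecMap_residueFieldMap_fromSpecResidueField]
  have hcomm : evalAt (CommRingCat.of R) y' ≫ f'.residueFieldMap x = φ ≫ ev := by
    apply Spec.map_injective
    rw [Spec.map_comp, Spec.map_comp, specMap_evalAt, Scheme.Hom.SpecMap_residueFieldMap_fromSpecResidueField,
      hev, hφ, Category.assoc, ← Category.assoc X'.isoSpec.hom, X'.isoSpec.hom_inv_id, Category.id_comp]
  have hker : ∀ w : W, ev w = 0 ↔ w ∈ (x₀ : PrimeSpectrum W).asIdeal := fun w => by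
    have h0 : X'.isoSpec.hom.base x = x₀ := by
      rw [← hx', ← Scheme.Hom.comp_apply, X'.isoSpec.inv_hom_id]
      rfl
    rw [← h0, ← evalAt_eq_zero]
    exact map_eq_zero_iff (X'.isoSpec.hom.residueFieldMap x).hom (x := evalAt W (X'.isoSpec.hom.base x) w)
      (X'.isoSpec.hom.residueFieldMap x).hom.injective
  letI : Algebra k' ((Spec (CommRingCat.of R)).residueField y') :=
    ((evalAt (CommRingCat.of R) y').hom.comp (algebraMap k' R)).toAlgebra
  letI := (f'.residueFieldMap x).hom.toAlgebra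
  letI : Algebra k' (X'.residueField x) := (ev.hom.comp (algebraMap k' W)).toAlgebra
  haveI : IsScalarTower k' ((Spec (CommRingCat.of R)).residueField y') (X'.residueField x) :=
    IsScalarTower.of_algebraMap_eq fun c => (congrArg (fun ψ => ψ.hom (algebraMap k' R c)) hcomm).symm
  let ψ : (W ⧸ (x₀ : PrimeSpectrum W).asIdeal) →ₐ[k'] X'.residueField x :=
    Ideal.Quotient.liftₐ _ { ev.hom with commutes' := fun _ => rfl } fun w hw => (hker w).2 hw
  refine (trdeg_le_of_injective ψ ((injective_iff_map_eq_zero _).2 fun w hw => ?_)).trans ?_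
  · obtain ⟨w, rfl⟩ := Ideal.Quotient.mk_surjective w
    exact Ideal.Quotient.eq_zero_iff_mem.2 ((hker w).1 hw)
  · haveI : ∀ (P Q : Type u) [Field P] [Field Q] [Algebra P Q], FaithfulSMul P Q := fun P Q _ _ _ =>
      (faithfulSMul_iff_algebraMap_injective _ _).mpr (algebraMap P Q).injective
    rw [← trdeg_add_eq k' ((Spec (CommRingCat.of R)).residueField y') (A := X'.residueField x), hb]
    refine (add_le_add_left (trdeg_residueField_le y' (trdeg_quot_le e _ a ha.le)) _).trans ?_
    exact_mod_cast hab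

end Groth.L28.AffLef
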