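import Groth.Agent.L28.AffLef.Strict

/-! # Affine Lefschetz for sheaves with small support -/

set_option autoImplicit false
set_option linter.style.haveILetI false
set_option linter.unusedSectionVars false
set_option backward.isDefEq.respectTransparency.types false

universe u

open CategoryTheory CategoryTheory.Limits AlgebraicGeometry Opposite IsLocalRing

noncomputable section

namespace Groth.L28.AffLef

open Groth.L27

/-- Vanishing on an affine algebraic scheme for sheaves supported in small dimension. -/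
theorem subsingleton_H_affine_supp (K : Type u) [Field K] (W : Type u) [CommRing W] [Algebra K W]
    [Algebra.FiniteType K W] (a e : ℕ) (hK : EtCoh.CohDimLE (Spec (CommRingCat.of K)) e)
    (F : EtCoh.Ab (Spec (CommRingCat.of W))) (hF : EtCoh.IsTorsion F)
    (hs : ∀ x ∈ EtPBC.supp F, Algebra.trdeg K (W ⧸ (x : PrimeSpectrum W).asIdeal) ≤ (a : Cardinal))
    (q : ℕ) (hq : a + e < q) : Subsingleton (EtCoh.H (Spec (CommRingCat.of W)) F q) := by
  haveI : IsNoetherianRing W := Algebra.FiniteType.isNoetherianRing K W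
  haveI : AlgebraicGeometry.IsNoetherian (Spec (CommRingCat.of W)) := inferInstance
  let P : Set ↥(Spec (CommRingCat.of W)) :=
    {x | Algebra.trdeg K (W ⧸ (x : PrimeSpectrum W).asIdeal) ≤ (a : Cardinal)}
  have hP : ∀ b c : ↥(Spec (CommRingCat.of W)), b ⤳ c → b ∈ P → c ∈ P := fun b c hbc hb => by
    have hle : (b : PrimeSpectrum W).asIdeal ≤ (c : PrimeSpectrum W).asIdeal :=
      (PrimeSpectrum.le_iff_specializes b c).2 hbc
    exact (trdeg_le_of_surjective (Ideal.Quotient.factorₐ K hle) (Ideal.Quotient.factor_surjective hle)).trans hb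
  refine subsingleton_H_of_primes F hF (fun G => EtPBC.supp G ⊆ P) hs (fun v _ h => (supp_mono v).trans h)
    (fun v _ h => (supp_epi v).trans h) fun ℓ hℓ G hG hGs =>
      subsingleton_H_supp P hP G hG hGs (m := e + a) (fun Z ι _ hZ => ?_) q (by omega)
  obtain ⟨I, ι', hι⟩ := IsClosedImmersion.Spec_iff.1 (inferInstance : IsClosedImmersion ι)
  refine FieldTower.CdLE.of_integral (Y := Spec (CommRingCat.of (W ⧸ I))) ι'.hom ?_
  haveI : Algebra.FiniteType K (W ⧸ I) := Algebra.FiniteType.trans (inferInstance : Algebra.FiniteType K W) inferInstance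
  let sk : Spec (CommRingCat.of (W ⧸ I)) ⟶ Spec (CommRingCat.of K) :=
    Spec.map (CommRingCat.ofHom (algebraMap K (W ⧸ I)))
  haveI : LocallyOfFiniteType sk := by
    rw [HasRingHomProperty.Spec_iff (P := @LocallyOfFiniteType)]
    exact RingHom.finiteType_algebraMap.mpr inferInstance
  refine affBound hℓ a K e (cdLE_of_cohDimLE hK ℓ) _ sk
    ((PrimeSpectrum.topologicalKrullDim_eq_ringKrullDim (W ⧸ I)).trans_le
      (ringKrullDim_le_of_trdeg K (W ⧸ I) a fun Q hQ => ?_))
  haveI := hQ.isPrime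
  let x : Spec (CommRingCat.of (W ⧸ I)) := ⟨Q, inferInstance⟩
  have hx := hZ ⟨ι'.inv x, rfl⟩
  rw [hι, Scheme.Hom.comp_apply, ← Scheme.Hom.comp_apply ι'.inv, ι'.inv_hom_id] at hx
  let φ : (W ⧸ Q.comap (Ideal.Quotient.mk I)) →ₐ[K] (W ⧸ I) ⧸ Q :=
    Ideal.Quotient.liftₐ _ ((Ideal.Quotient.mkₐ K Q).comp (Ideal.Quotient.mkₐ K I))
      fun r hr => Ideal.Quotient.eq_zero_iff_mem.2 hr
  refine (trdeg_le_of_surjective φ fun y => ?_).trans hx
  obtain ⟨y, rfl⟩ := Ideal.Quotient.mk_surjective y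
  obtain ⟨y, rfl⟩ := Ideal.Quotient.mk_surjective y
  exact ⟨Ideal.Quotient.mk _ y, rfl⟩

/-- The scheme form. -/
theorem subsingleton_H_resTrdeg (K : Type u) [Field K] (X : Scheme.{u}) [IsAffine X]
    (f : X ⟶ Spec (CommRingCat.of K)) [LocallyOfFiniteType f] (a e : ℕ)
    (hK : EtCoh.CohDimLE (Spec (CommRingCat.of K)) e) (F : EtCoh.Ab X) (hF : EtCoh.IsTorsion F)
    (hsupp : ∀ x ∈ EtPBC.supp F, EtPBC.ResTrdegLE f x a) (q : ℕ) (hq : a + e < q) :
    Subsingleton (EtCoh.H X F q) := by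
  let W := Γ(X, ⊤)
  let iX : Spec W ⟶ X := X.isoSpec.inv
  obtain ⟨φ, hφ⟩ := Spec.map_surjective (iX ≫ f)
  letI : Algebra K W := φ.hom.toAlgebra
  haveI : Algebra.FiniteType K W := by
    haveI : LocallyOfFiniteType (Spec.map φ) := by
      rw [hφ]
      infer_instance
    exact RingHom.finiteType_algebraMap.mp (HasRingHomProperty.Spec_iff.mp this)
  haveI := EtSite.preservesFiniteLimits_pull iX
  have hrange : EtPBC.supp F ⊆ Set.range iX.base := fun x _ => ⟨X.isoSpec.hom.base x, by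
    rw [← Scheme.Hom.comp_apply, X.isoSpec.hom_inv_id]
    rfl⟩
  haveI := (EtSite.isIso_unit_iff iX (EtSite.propA_of_isIntegralHom iX) F).2 hrange
  refine Devissage.of_iso (asIso ((EtCoh.pullPushAdj iX).unit.app F)) q (Devissage.of_push iX _ q ?_)
  refine subsingleton_H_affine_supp K W a e hK ((EtCoh.pull iX).obj F)
    (CurveCd.isTorsion_pull iX hF) (fun x₀ hx₀ => ?_) q hq
  have hx : iX.base x₀ ∈ EtPBC.supp F := by
    obtain ⟨Ω, _, _, ξ, hξ, hne⟩ := hx₀
    refine ⟨Ω, inferInstance, inferInstance, ξ ≫ iX, Spz.range_eq_singleton _ ((Scheme.Hom.comp_apply _ _ _).trans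
      (congrArg iX.base (show ξ.base default = x₀ from hξ.subset ⟨_, rfl⟩))), fun h0 => hne ?_⟩
    exact IsZero.of_iso h0 ((EtSite.stalkPullIso iX ξ).app _)
  obtain ⟨ψ, hψ, htr⟩ := hsupp _ hx
  generalize hx' : iX.base x₀ = x at ψ hψ htr
  let ev : W ⟶ X.residueField x := evalAt W (X.isoSpec.hom.base x) ≫ X.isoSpec.hom.residueFieldMap x
  have hcomm : CommRingCat.ofHom ψ = φ ≫ ev := by
    apply Spec.map_injective
    rw [hψ, Spec.map_comp, Spec.map_comp, specMap_evalAt, Scheme.Hom.SpecMap_residueFieldMap_fromSpecResidueField,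
      hφ, Category.assoc, ← Category.assoc X.isoSpec.hom, X.isoSpec.hom_inv_id, Category.id_comp]
  have hker : ∀ w : W, ev w = 0 ↔ w ∈ (x₀ : PrimeSpectrum W).asIdeal := fun w => by
    have h0 : X.isoSpec.hom.base x = x₀ := by
      rw [← hx', ← Scheme.Hom.comp_apply, X.isoSpec.inv_hom_id]
      rfl
    rw [← h0, ← evalAt_eq_zero]
    exact map_eq_zero_iff (X.isoSpec.hom.residueFieldMap x).hom (x := evalAt W (X.isoSpec.hom.base x) w)
      (X.isoSpec.hom.residueFieldMap x).hom.injective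
  letI := ψ.toAlgebra
  let χ : (W ⧸ (x₀ : PrimeSpectrum W).asIdeal) →ₐ[K] X.residueField x :=
    Ideal.Quotient.liftₐ _
      { ev.hom with commutes' := fun c => (congrArg (fun r => r.hom c) hcomm).symm }
      fun w hw => (hker w).2 hw
  refine (trdeg_le_of_injective χ ((injective_iff_map_eq_zero _).2 fun w hw => ?_)).trans htr
  obtain ⟨w, rfl⟩ := Ideal.Quotient.mk_surjective w
  exact Ideal.Quotient.eq_zero_iff_mem.2 ((hker w).1 hw)

end Groth.L28.AffLef
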