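import Groth.Agent.L05.Henselization.Noeth
import Groth.Agent.L22.AffineDim

/-! # Transcendence degree against dimension, over strictly local rings -/

set_option autoImplicit false
set_option linter.style.haveILetI false
set_option linter.unusedSectionVars false
set_option backward.isDefEq.respectTransparency.types false

universe u

open IsLocalRing

noncomputable section

namespace Groth.L28.AffLef

open Groth.L05.Henselization

/-- An algebra of finite type has dimension bounded by the transcendence degrees of its components. -/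
theorem ringKrullDim_le_of_trdeg (K A : Type u) [Field K] [CommRing A] [Algebra K A] [Algebra.FiniteType K A]
    (d : ℕ) (h : ∀ P ∈ minimalPrimes A, Algebra.trdeg K (A ⧸ P) ≤ (d : Cardinal)) : ringKrullDim A ≤ d := by
  refine iSup_le fun l => ?_
  obtain ⟨P, hP, hPl⟩ := Ideal.exists_minimalPrimes_le (I := (⊥ : Ideal A)) (J := l.head.asIdeal) bot_le
  haveI : P.IsPrime := hP.isPrime
  haveI : Algebra.FiniteType K (A ⧸ P) := Algebra.FiniteType.trans (inferInstance : Algebra.FiniteType K A) inferInstance
  obtain ⟨n, g, -, -, hn, htr⟩ := Groth.L22.AffineDim.exists_normalization K (A ⧸ P)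
  have hmem : ∀ i, l i ∈ PrimeSpectrum.zeroLocus (P : Set A) := fun i =>
    show (P : Set A) ⊆ (l i).asIdeal from hPl.trans (l.head_le i)
  let l' : LTSeries (PrimeSpectrum.zeroLocus (R := A) (P : Set A)) :=
    ⟨l.length, fun i => ⟨l i, hmem i⟩, fun i => l.step i⟩
  have h1 : (l.length : WithBot ℕ∞) ≤ ringKrullDim (A ⧸ P) := by
    rw [ringKrullDim_quotient]
    exact Order.LTSeries.length_le_krullDim l'
  have h2 := h P hP
  rw [htr] at h2
  have h3 : n ≤ d := by exact_mod_cast h2
  rw [hn] at h1
  have h4 : l.length ≤ n := by exact_mod_cast h1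
  exact_mod_cast h4.trans h3

/-- A bound on the transcendence degree may be checked on finite families. -/
theorem trdeg_le_of_forall {k D : Type u} [CommRing k] [CommRing D] [Algebra k D] {d : ℕ}
    (h : ∀ (t : Finset D), AlgebraicIndependent k (fun x : t => (x : D)) → t.card ≤ d) :
    Algebra.trdeg k D ≤ (d : Cardinal) := by
  refine ciSup_le' fun s => ?_
  refine Cardinal.card_le_of fun t => ?_
  classical
  rw [← Finset.card_map (Function.Embedding.subtype (fun x => x ∈ s.1))]
  refine h _ ?_
  have hind : AlgebraicIndependent k (fun x : s.1 => (x : D)) := s.2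
  refine AlgebraicIndependent.comp hind
    (fun x : (t.map (Function.Embedding.subtype (fun x => x ∈ s.1))) =>
      (⟨(x : D), Finset.property_of_mem_map_subtype t x.2⟩ : s.1)) ?_
  intro a b hab
  exact Subtype.ext (congrArg (fun z : s.1 => (z : D)) hab)

/-- An independent family with lifts in an algebra of finite type. -/
theorem card_le_of_lifts {k E D : Type u} [Field k] [CommRing E] [Algebra k E] [Algebra.FiniteType k E]
    [CommRing D] [IsDomain D] [Algebra k D] (φ : E →ₐ[k] D) (t : Finset D)
    (ht : AlgebraicIndependent k (fun x : t => (x : D))) (hl : ∀ x ∈ t, x ∈ φ.range) :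
    ∃ n : ℕ, ringKrullDim (E ⧸ RingHom.ker φ.toRingHom) = n ∧ t.card ≤ n := by
  let I := RingHom.ker φ.toRingHom
  haveI : I.IsPrime := RingHom.ker_isPrime φ.toRingHom
  haveI : Algebra.FiniteType k (E ⧸ I) := Algebra.FiniteType.trans (inferInstance : Algebra.FiniteType k E) inferInstance
  obtain ⟨n, g, -, -, hn, htr⟩ := Groth.L22.AffineDim.exists_normalization k (E ⧸ I)
  refine ⟨n, hn, ?_⟩
  let φ' : (E ⧸ I) →ₐ[k] D := Ideal.Quotient.liftₐ I φ fun a ha => ha
  choose y hy using fun x : t => hl x.1 x.2
  have hind : AlgebraicIndependent k (fun x : t => Ideal.Quotient.mk I (y x)) := by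
    refine AlgebraicIndependent.of_comp φ' ?_
    rwa [show φ' ∘ (fun x : t => Ideal.Quotient.mk I (y x)) = (fun x : t => (x : D)) from funext hy]
  have := hind.cardinalMk_le_trdeg
  rw [htr, Cardinal.mk_coe_finset] at this
  exact_mod_cast this

/-- A saturated chain from a prime to a maximal ideal above it. -/
theorem exists_series_quotient (k A : Type u) [Field k] [CommRing A] [Algebra k A] [Algebra.FiniteType k A]
    (I q : Ideal A) [I.IsPrime] [q.IsMaximal] (hle : I ≤ q) {n : ℕ} (hn : ringKrullDim (A ⧸ I) = n) :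
    ∃ l : LTSeries (PrimeSpectrum A), l.last.asIdeal = q ∧ l.length = n ∧ I ≤ l.head.asIdeal := by
  haveI : Algebra.FiniteType k (A ⧸ I) := Algebra.FiniteType.trans (inferInstance : Algebra.FiniteType k A) inferInstance
  haveI : (q.map (Ideal.Quotient.mk I)).IsMaximal :=
    Ideal.IsMaximal.map_of_surjective_of_ker_le Ideal.Quotient.mk_surjective (by rwa [Ideal.mk_ker])
  have hh := Groth.L22.AffineDim.height_of_isMaximal k (A ⧸ I) (q.map (Ideal.Quotient.mk I))
  rw [hn] at hh
  let qq : PrimeSpectrum (A ⧸ I) := ⟨q.map (Ideal.Quotient.mk I), inferInstance⟩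
  have h' : (q.map (Ideal.Quotient.mk I)).height = (n : ℕ∞) := by exact_mod_cast hh
  obtain ⟨p, hpl, hpn⟩ := Order.exists_series_of_height_eq_coe qq
    ((PrimeSpectrum.height_eq_orderHeight qq).symm.trans h')
  refine ⟨p.map (PrimeSpectrum.comap (Ideal.Quotient.mk I))
    (Monotone.strictMono_of_injective (fun a b hab => Ideal.comap_mono hab)
      (PrimeSpectrum.comap_injective_of_surjective _ Ideal.Quotient.mk_surjective)), ?_, hpn, ?_⟩
  · show (p.last.asIdeal).comap (Ideal.Quotient.mk I) = q
    rw [hpl]
    show (q.map (Ideal.Quotient.mk I)).comap (Ideal.Quotient.mk I) = q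
    rw [Ideal.comap_map_of_surjective _ Ideal.Quotient.mk_surjective, ← RingHom.ker_eq_comap_bot, Ideal.mk_ker]
    exact sup_eq_left.2 hle
  · intro a ha
    show a ∈ (p.head.asIdeal).comap (Ideal.Quotient.mk I)
    rw [Ideal.mem_comap, Ideal.Quotient.eq_zero_iff_mem.2 ha]
    exact zero_mem _

variable {k : Type u} [Field k] {B : Type u} [CommRing B] [Algebra k B] [Algebra.FiniteType k B]
  {L : Type u} [Field L] [Algebra B L] {R : Type u} [CommRing R] [IsLocalRing R] [Algebra B R]
  [Algebra k R] [IsScalarTower k B R]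

set_option maxHeartbeats 400000 in
/-- On a strictly local ring the transcendence degree at a prime is at most its dimension. -/
theorem trdeg_quot_le (e : Col B L ≃ₐ[B] R) [IsNoetherianRing R]
    [hm : ((maximalIdeal R).comap (algebraMap B R)).IsMaximal] (P : Ideal R) [P.IsPrime] (d : ℕ)
    (hd : ringKrullDim (R ⧸ P) ≤ d) : Algebra.trdeg k (R ⧸ P) ≤ (d : Cardinal) := by
  classical
  refine trdeg_le_of_forall fun t ht => ?_
  choose y hy using fun x : R ⧸ P => Ideal.Quotient.mk_surjective x
  obtain ⟨G, hG⟩ := (IsNoetherian.noetherian P : P.FG)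
  obtain ⟨X, hX⟩ := exists_lift_finset ((t.image y ∪ G).image e.symm)
  haveI : Algebra.Etale B X.R := X.etale
  haveI : Algebra.FiniteType k X.R := Algebra.FiniteType.trans (inferInstance : Algebra.FiniteType k B) inferInstance
  let φ : X.R →ₐ[B] R := e.toAlgHom.comp (ι X)
  have hφ : ∀ r ∈ t.image y ∪ G, r ∈ φ.range := fun r hr => by
    obtain ⟨x, hx⟩ := hX _ (Finset.mem_image_of_mem _ hr)
    exact ⟨x, (congrArg e hx).trans (e.apply_symm_apply r)⟩
  letI : Algebra X.R R := φ.toRingHom.toAlgebra
  haveI : Module.Flat X.R R := by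
    show φ.toRingHom.Flat
    exact RingHom.Flat.comp (flat_ι X) (RingHom.Flat.of_bijective e.bijective)
  haveI : IsScalarTower B X.R R := IsScalarTower.of_algebraMap_eq fun b => (φ.commutes b).symm
  haveI : IsScalarTower k X.R R := IsScalarTower.of_algebraMap_eq fun c => by
    show algebraMap k R c = φ (algebraMap k X.R c)
    rw [IsScalarTower.algebraMap_apply k B X.R, φ.commutes, ← IsScalarTower.algebraMap_apply]
  let ψ : X.R →ₐ[k] R ⧸ P := (Ideal.Quotient.mkₐ k P).comp (IsScalarTower.toAlgHom k X.R R)
  obtain ⟨n, hn, htn⟩ := card_le_of_lifts ψ t ht fun x hx => by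
    obtain ⟨a, ha⟩ := hφ (y x) (Finset.mem_union_left _ (Finset.mem_image_of_mem _ hx))
    exact ⟨a, (congrArg (Ideal.Quotient.mk P) ha).trans (hy x)⟩
  refine htn.trans ?_
  let I := RingHom.ker ψ.toRingHom
  have hI : I = P.comap φ.toRingHom := Ideal.ext fun a => Ideal.Quotient.eq_zero_iff_mem
  haveI : I.IsPrime := RingHom.ker_isPrime ψ.toRingHom
  haveI : Algebra.FiniteType k (X.R ⧸ I) := Algebra.FiniteType.trans (inferInstance : Algebra.FiniteType k X.R) inferInstance
  let q : Ideal X.R := (maximalIdeal R).comap φ.toRingHom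
  haveI hq : q.IsMaximal := by
    obtain ⟨N, hN, hqN⟩ := Ideal.exists_le_maximal q (Ideal.IsPrime.ne_top inferInstance)
    haveI := hN
    have h0 : q.under B = (maximalIdeal R).comap (algebraMap B R) :=
      (Ideal.comap_comap _ _).trans
        (congrArg (fun r : B →+* R => (maximalIdeal R).comap r) φ.comp_algebraMap)
    have hqN' : q.under B = N.under B := h0.trans (hm.eq_of_le (Ideal.IsPrime.ne_top inferInstance)
      (h0.ge.trans (Ideal.comap_mono hqN)))
    exact (Algebra.QuasiFinite.eq_of_le_of_under_eq q N hqN hqN') ▸ hN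
  have hle : I ≤ q := hI ▸ Ideal.comap_mono (IsLocalRing.le_maximalIdeal (Ideal.IsPrime.ne_top inferInstance))
  obtain ⟨l, hlq, hpn, hlI⟩ := exists_series_quotient k X.R I q hle hn
  haveI : (maximalIdeal R).LiesOver l.last.asIdeal := ⟨hlq⟩
  obtain ⟨M, hMl, -, hM⟩ := Ideal.exists_ltSeries_of_hasGoingDown l (maximalIdeal R)
  have hMP : P ≤ M.head.asIdeal := by
    intro r hr
    rw [← hG] at hr
    refine (Submodule.span_le.2 fun g hg => ?_) hr
    obtain ⟨a, rfl⟩ := hφ g (Finset.mem_union_right _ hg)
    have haI : a ∈ I := by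
      rw [hI]
      exact hG ▸ Ideal.subset_span hg
    have hhead : PrimeSpectrum.comap (algebraMap X.R R) M.head = l.head := by
      have := congrArg List.head? hM
      rw [List.head?_map, List.head?_eq_some_head M.toList_ne_nil, List.head?_eq_some_head l.toList_ne_nil,
        RelSeries.head_toList, RelSeries.head_toList, Option.map_some] at this
      exact Option.some.inj this
    have : a ∈ l.head.asIdeal := hlI haI
    rw [← hhead] at this
    exact this
  have hmem : ∀ i, M i ∈ PrimeSpectrum.zeroLocus (P : Set R) := fun i =>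
    show (P : Set R) ⊆ (M i).asIdeal from hMP.trans (M.head_le i)
  let M' : LTSeries (PrimeSpectrum.zeroLocus (R := R) (P : Set R)) :=
    ⟨M.length, fun i => ⟨M i, hmem i⟩, fun i => M.step i⟩
  have h1 : (M.length : WithBot ℕ∞) ≤ ringKrullDim (R ⧸ P) := by
    rw [ringKrullDim_quotient]
    exact Order.LTSeries.length_le_krullDim M'
  rw [hMl, hpn] at h1
  exact_mod_cast h1.trans hd

end Groth.L28.AffLef
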